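import Cfsg.Agent.Lib.BGroup.FieldKill.Tools
import Cfsg.Agent.Lib.BGroup.Fusion
import Cfsg.Agent.Lib.BGroup.FieldCent
import Cfsg.Agent.Lib.EqualOrder2.Local
import Cfsg.Agent.Lib.Invol.EqualOrderConj.Local
import Cfsg.Agent.Lib.SU.Ind

/-!
# The centralizer of an involution with trivial odd core: `⟨t⟩ × (K D)`
-/

set_option autoImplicit false
set_option linter.unusedSectionVars false
set_option linter.style.haveILetI false

namespace CfsgLib.BGroup.FieldKill

open Subgroup

universe u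

variable {X : Type u} [Group X] [Finite X]

/-- `C(t) = (⟨t⟩ × K) D` with `K ≅ PSL(2, q)` and `D` cyclic of odd order centralizing a Sylow
`2`-subgroup. -/
structure Frame (X : Type u) [Group X] [Finite X] where
  t : X
  S : Sylow 2 X
  ht : orderOf t = 2
  htS : t ∈ (S : Subgroup X)
  hS : Cfsg.IsElementaryAbelian 2 (S : Subgroup X)
  h8 : Nat.card (S : Subgroup X) = 8
  F : Type
  [field : Field F]
  [fintype : Fintype F]
  five_le : 5 ≤ Fintype.card F
  mod_eight : Fintype.card F % 8 = 3 ∨ Fintype.card F % 8 = 5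
  K : Subgroup X
  D : Subgroup X
  e : K ≃* Matrix.ProjectiveSpecialLinearGroup (Fin 2) F
  K_comm : ∀ k ∈ K, Commute k t
  t_notMem : t ∉ K
  mem_D : ∀ d, d ∈ D ↔ (∀ s ∈ (S : Subgroup X), Commute d s) ∧ Odd (orderOf d)
  D_cyc : IsCyclic D
  K_map : ∀ f : MulAut X, f t = t → ∀ k ∈ K, f k ∈ K
  decomp : ∀ x, Commute x t → ∃ a, (a = 1 ∨ a = t) ∧ ∃ k ∈ K, ∃ d ∈ D, x = a * k * d
  disj : ∀ a, (a = 1 ∨ a = t) → ∀ k ∈ K, a * k ∈ D → a * k = 1
  moves : ∃ k ∈ K, k ∈ normalizer ((S : Subgroup X) : Set X) ∧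
    ∃ s ∈ (S : Subgroup X), k * s * k⁻¹ ≠ s
  cent : ∀ d ∈ D, ∃ (F₁ : Type) (_ : Field F₁) (_ : Fintype F₁),
    Fintype.card F₁ ^ orderOf d = Fintype.card F ∧
    Nonempty (↥(K ⊓ centralizer ({d} : Set X)) ≃* Matrix.ProjectiveSpecialLinearGroup (Fin 2) F₁)

attribute [instance] Frame.field Frame.fintype

/-- The data exists when the odd core is trivial and `C(t)` is not solvable, the `2`-elements
squaring to one. -/
theorem exists_frame_of_exp (hexp : ∀ x : X, ∀ k : ℕ, x ^ 2 ^ k = 1 → x * x = 1)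
    (hS : ∀ S : Sylow 2 X, Nat.card (S : Subgroup X) = 8)
    {t : X} (ht : orderOf t = 2) (hcore : O t = ⊥)
    (hns : ¬ Group.IsSolvable ↥(centralizer ({t} : Set X))) :
    ∃ Φ : Frame X, Φ.t = t := by
  classical
  haveI : Fact (Nat.Prime 2) := ⟨Nat.prime_two⟩
  obtain ⟨S, htS⟩ : ∃ S : Sylow 2 X, t ∈ (S : Subgroup X) := by
    obtain ⟨S, hS'⟩ := (IsPGroup.of_card (G := zpowers t) (p := 2) (n := 1)
      (by rw [Nat.card_zpowers, ht, pow_one])).exists_le_sylow
    exact ⟨S, hS' (mem_zpowers t)⟩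
  have hsq1 : ∀ (T : Sylow 2 X) {x : X}, x ∈ (T : Subgroup X) → x * x = 1 := fun T x hx => by
    obtain ⟨k, hk⟩ := T.2 ⟨x, hx⟩
    exact hexp x k (congrArg Subtype.val hk)
  have hcomm : ∀ (T : Sylow 2 X) {x y : X}, x ∈ (T : Subgroup X) → y ∈ (T : Subgroup X) →
      x * y = y * x := fun T x y hx hy => by
    have h1 := hsq1 T (mul_mem hx hy)
    have hxi : x⁻¹ = x := inv_eq_of_mul_eq_one_left (hsq1 T hx)
    have hyi : y⁻¹ = y := inv_eq_of_mul_eq_one_left (hsq1 T hy)
    calc x * y = (x * y)⁻¹ := (inv_eq_of_mul_eq_one_left h1).symm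
      _ = y * x := by rw [mul_inv_rev, hxi, hyi]
  have hSe : Cfsg.IsElementaryAbelian 2 (S : Subgroup X) :=
    ⟨⟨⟨fun a b => Subtype.ext (hcomm S a.2 b.2)⟩⟩, fun a ha => by rw [sq]; exact hsq1 S ha⟩
  have h8 := hS S
  obtain ⟨L⟩ := EqualOrder2.exists_local S hSe h8 ht hns
  have hoddF : Odd (Fintype.card L.F) := L.odd_field
  have h2 : (2 : L.F) ≠ 0 :=
    CfsgLib.Perm.Dickson.two_ne_zero_of_odd (F := L.F) (by rwa [Nat.card_eq_fintype_card])
  haveI hsimple := L.simple
  set Cx := centralizer ({t} : Set X) with hCx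
  let tC : Cx := ⟨t, mem_centralizer_singleton_iff.2 rfl⟩
  have hcore' : ∀ x : X, x ∈ EqualOrder2.core t → x = 1 := fun x hx => by
    rw [show EqualOrder2.core t = ⊥ from hcore, mem_bot] at hx
    exact hx
  have hker : ∀ x : Cx, L.φ x = 1 → (x : X) = 1 ∨ (x : X) = t := by
    intro x hx
    rcases (L.ker_iff x).1 hx with h | h
    · exact Or.inl (hcore' _ h)
    · have h' := hcore' _ h
      exact Or.inr (by rw [mul_eq_one_iff_inv_eq, Invol.invol_inv ht] at h'; exact h'.symm)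
  -- the kernel of the field part
  let ψ : Cx →* RingAut L.F := CfsgLib.GW.fieldPartHom.comp L.φ
  have hinn : ∀ x : Cx, ψ x = 1 ↔ ∃ k, L.φ x = MulAut.conj k := by
    intro x
    constructor
    · intro hx
      obtain ⟨g, hg⟩ := CfsgLib.GW.mem_ker_fieldPartHom.1 hx
      obtain ⟨a, b, hb, hab⟩ := Nat.exists_eq_two_pow_mul_odd (orderOf_pos x).ne'
      have hxb : (x ^ b) * (x ^ b) = 1 := by
        refine Subtype.ext (hexp _ a ?_)
        rw [← Subgroup.coe_pow, ← pow_mul, mul_comm, ← hab, pow_orderOf_eq_one, Subgroup.coe_one]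
      obtain ⟨k₁, hk₁⟩ := L.invol_inner (x ^ b) hxb
      have hsq : CfsgLib.AutPSL.indHom (g * g) ∈ Cfsg.Inn (Matrix.ProjectiveSpecialLinearGroup (Fin 2) L.F) :=
        (CfsgLib.GW.indHom_mem_inn_iff h2 _).2 ⟨g.1.det, by rw [Units.val_mul, Matrix.det_mul]⟩
      obtain ⟨k₂, hk₂⟩ := hsq
      obtain ⟨j, hj⟩ := hb
      refine ⟨k₁ * (k₂ ^ j)⁻¹, ?_⟩
      rw [map_mul, map_inv, map_pow, ← hk₁, eq_mul_inv_iff_mul_eq, map_pow,
        show MulAut.conj k₂ = _ from hk₂, map_mul, ← hg, hj, ← pow_two, ← pow_mul, ← pow_succ']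
    · rintro ⟨k, hk⟩
      obtain ⟨A, rfl⟩ := QuotientGroup.mk'_surjective _ k
      show CfsgLib.GW.fieldPartHom (L.φ x) = 1
      rw [hk]
      refine CfsgLib.GW.mem_ker_fieldPartHom.2 ⟨Matrix.SpecialLinearGroup.toGL A, ?_⟩
      exact CfsgLib.AutPSL.conj_proj A
  set C₀ : Subgroup Cx := ψ.ker with hC₀
  set C₀X : Subgroup X := C₀.map Cx.subtype with hC₀X
  have hmem₀ : ∀ (x : X) (hx : x ∈ Cx), x ∈ C₀X ↔ ψ ⟨x, hx⟩ = 1 := fun x hx => by
    constructor
    · rintro ⟨y, hy, hyx⟩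
      rw [show (⟨x, hx⟩ : Cx) = y from Subtype.ext hyx.symm]
      exact hy
    · exact fun h => ⟨⟨x, hx⟩, h, rfl⟩
  have hC₀le : C₀X ≤ Cx := map_subtype_le _
  -- the map onto `PSL`
  obtain ⟨π, hπ⟩ : ∃ π : C₀X →* Matrix.ProjectiveSpecialLinearGroup (Fin 2) L.F,
      ∀ x : C₀X, L.φ ⟨x, hC₀le x.2⟩ = MulAut.conj (π x) := by
    have hk : ∀ x : C₀X, ∃ k, L.φ ⟨x, hC₀le x.2⟩ = MulAut.conj k := fun x =>
      (hinn _).1 ((hmem₀ _ _).1 x.2)
    refine ⟨MonoidHom.mk' (fun x => (hk x).choose) (fun x y => L.conj_injective ?_),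
      fun x => (hk x).choose_spec⟩
    rw [map_mul, ← (hk x).choose_spec, ← (hk y).choose_spec, ← (hk (x * y)).choose_spec, ← map_mul]
    rfl
  have hπsurj : Function.Surjective π := by
    intro k
    obtain ⟨x, hx⟩ := L.inn k
    have hx0 : (x : X) ∈ C₀X := (hmem₀ _ x.2).2 ((hinn x).2 ⟨k, hx⟩)
    exact ⟨⟨x, hx0⟩, L.conj_injective (by rw [← hπ]; exact hx)⟩
  have hπker : ∀ x : C₀X, π x = 1 → (x : X) = 1 ∨ (x : X) = t := fun x hx =>
    hker _ (by rw [hπ, hx, map_one])
  have hSC : (S : Subgroup X) ≤ Cx := fun s hs =>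
    mem_centralizer_singleton_iff.2 (hcomm S hs htS)
  have hS₀ : (S : Subgroup X) ≤ C₀X := fun s hs => (hmem₀ s (hSC hs)).2
    ((hinn _).2 (L.invol_inner _ (Subtype.ext (hsq1 S hs))))
  have ht₀ : t ∈ C₀X := hS₀ htS
  -- `K`
  set K : Subgroup X := ⁅C₀X, C₀X⁆ with hK
  have hK₀ : K ≤ C₀X := commutator_le.2 fun a ha b hb =>
    mul_mem (mul_mem (mul_mem ha hb) (inv_mem ha)) (inv_mem hb)
  have hKeq : K = (commutator C₀X).map C₀X.subtype := by
    rw [commutator_def, map_commutator, ← MonoidHom.range_eq_map, range_subtype]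
  have ht_notK : t ∉ K := by
    intro h
    rw [hKeq] at h
    obtain ⟨y, hy, hyt⟩ := h
    refine Invol.invol_ne_one ht ?_
    rw [← hyt]
    have : y = 1 := eq_one_of_central (S.subtype hS₀) (fun a ha b hb => Subtype.ext
      (hcomm S ha hb)) (by show (y : X) ∈ (S : Subgroup X); rw [show (y : X) = t from hyt]; exact htS)
      (fun g => Subtype.ext (by
        show (g : X) * y = y * g
        rw [show (y : X) = t from hyt]
        exact mem_centralizer_singleton_iff.1 (hC₀le g.2))) hy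
    rw [this]; rfl
  let πK : K →* Matrix.ProjectiveSpecialLinearGroup (Fin 2) L.F := π.comp (inclusion hK₀)
  have hπKinj : Function.Injective πK := by
    rw [injective_iff_map_eq_one]
    intro k hk
    rcases hπker _ hk with h | h
    · exact Subtype.ext h
    · exact absurd (show t ∈ K from h ▸ k.2) ht_notK
  have hperfF : commutator (Matrix.ProjectiveSpecialLinearGroup (Fin 2) L.F) = ⊤ := by
    rcases (inferInstance : (commutator (Matrix.ProjectiveSpecialLinearGroup (Fin 2) L.F)).Normal).eq_bot_or_eq_top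
      with h | h
    · exfalso
      refine (CfsgLib.Perm.Dickson.psl_simple_noncomm (F := L.F)
        (by rw [Nat.card_eq_fintype_card]; exact le_of_lt L.five_le)).2 ⟨⟨fun a b => ?_⟩⟩
      have h1 : a * b * a⁻¹ * b⁻¹ ∈ commutator (Matrix.ProjectiveSpecialLinearGroup (Fin 2) L.F) :=
        commutator_mem_commutator (mem_top a) (mem_top b)
      rw [h, mem_bot] at h1
      exact mul_inv_eq_iff_eq_mul.1 (mul_inv_eq_one.1 h1)
    · exact h
  have hπKsurj : Function.Surjective πK := by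
    intro k
    have hk : k ∈ (commutator C₀X).map π := by
      rw [commutator_def, map_commutator, map_top_of_surjective π hπsurj, ← commutator_def, hperfF]
      exact mem_top k
    obtain ⟨y, hy, rfl⟩ := hk
    exact ⟨⟨y, hKeq ▸ mem_map_of_mem _ hy⟩, rfl⟩
  let eK : K ≃* Matrix.ProjectiveSpecialLinearGroup (Fin 2) L.F :=
    MulEquiv.ofBijective πK ⟨hπKinj, hπKsurj⟩
  have hdec₀ : ∀ x ∈ C₀X, ∃ a, (a = 1 ∨ a = t) ∧ ∃ k ∈ K, x = a * k := by
    intro x hx
    obtain ⟨k, hk⟩ := hπKsurj (π ⟨x, hx⟩)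
    refine ⟨x * (k : X)⁻¹, ?_, k, k.2, by group⟩
    refine hπker (⟨x, hx⟩ * (inclusion hK₀ k)⁻¹) ?_
    rw [map_mul, map_inv, ← hk]
    exact mul_inv_cancel _
  have hKperf : ⁅K, K⁆ = K := by
    have h : ⁅(⊤ : Subgroup K), (⊤ : Subgroup K)⁆ = ⊤ := by
      apply map_injective (f := eK.toMonoidHom) eK.injective
      rw [map_commutator, map_top_of_surjective eK.toMonoidHom eK.surjective, ← commutator_def, hperfF]
    have h' := congrArg (Subgroup.map K.subtype) h
    rwa [map_commutator, ← MonoidHom.range_eq_map, range_subtype] at h'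
  have hK_map : ∀ f : MulAut X, f t = t → ∀ k ∈ K, f k ∈ K := by
    intro f hft k hk
    have hfC : K.map f.toMonoidHom ≤ Cx := by
      rw [← show Cx.map f.toMonoidHom = Cx by rw [hCx, map_centralizer f t, hft]]
      exact map_mono (hK₀.trans hC₀le)
    have hCC : ⁅Cx, Cx⁆ ≤ C₀X := commutator_le.2 fun a ha b hb => by
      refine (hmem₀ _ (mul_mem (mul_mem (mul_mem ha hb) (inv_mem ha)) (inv_mem hb))).2 ?_
      show ψ (⟨a, ha⟩ * ⟨b, hb⟩ * (⟨a, ha⟩ : Cx)⁻¹ * (⟨b, hb⟩ : Cx)⁻¹) = 1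
      rw [map_mul, map_mul, map_mul, map_inv, map_inv, SU.ringAut_commute (ψ ⟨a, ha⟩) (ψ ⟨b, hb⟩),
        mul_inv_cancel_right, mul_inv_cancel]
    have hfperf : ⁅K.map f.toMonoidHom, K.map f.toMonoidHom⁆ = K.map f.toMonoidHom := by
      rw [← map_commutator, hKperf]
    have h0 : K.map f.toMonoidHom ≤ C₀X := hfperf ▸ (commutator_mono hfC hfC).trans hCC
    exact (hfperf ▸ commutator_mono h0 h0 : K.map f.toMonoidHom ≤ K) (mem_map_of_mem _ hk)
  -- `D`
  set D : Subgroup X := EqConj.oddPart S with hD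
  have hmemD : ∀ d, d ∈ D ↔ (∀ s ∈ (S : Subgroup X), Commute d s) ∧ Odd (orderOf d) := fun d =>
    ⟨fun hd => ⟨fun s hs => EqConj.oddPart_commute S hd hs,
      (EqConj.oddPart_odd S).of_dvd_nat (Subgroup.orderOf_dvd_natCard _ hd)⟩,
      fun h => EqConj.mem_oddPart S hSe (fun s hs => (h.1 s hs).eq) h.2⟩
  have hDC : D ≤ Cx := fun d hd => mem_centralizer_singleton_iff.2 (((hmemD d).1 hd).1 t htS).eq
  obtain ⟨a₀, b₀, ha₀, hb₀, hne₀, hab₀, hfix⟩ := L.exists_four ht S hSe h8 htS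
  have hφodd : ∀ d : D, Odd (orderOf (L.φ ⟨d, hDC d.2⟩)) := fun d =>
    (show Odd (orderOf (⟨d, hDC d.2⟩ : Cx)) by
      rw [← Subgroup.orderOf_coe]; exact ((hmemD d).1 d.2).2).of_dvd_nat (orderOf_map_dvd _ _)
  have hφinj : ∀ d : D, ψ ⟨d, hDC d.2⟩ = 1 → d = 1 := by
    intro d hd
    obtain ⟨hfa, hfb⟩ := hfix ⟨d, hDC d.2⟩ ((hmemD d).1 d.2).1
    have h1 := BGroup.field_injective h2 (hφodd d) ha₀ hb₀ hne₀ hab₀ hfa hfb hd
    exact Subtype.ext (hcore' _ (L.mem_core_of_ker ht ((hmemD d).1 d.2).2 h1))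
  have hDcyc : IsCyclic D := by
    haveI : IsCyclic (RingAut L.F) := by
      obtain ⟨q, hq⟩ := CharP.exists L.F
      obtain ⟨f, hqp, hf⟩ := FiniteField.card L.F q
      haveI := Fact.mk hqp
      obtain ⟨θ⟩ := CfsgLib.AutPSL.exists_ringAut_equiv hf
      exact isCyclic_of_surjective θ.symm θ.symm.surjective
    exact isCyclic_of_injective (ψ.comp (inclusion hDC))
      ((injective_iff_map_eq_one _).2 hφinj)
  have hdisj : ∀ a, (a = 1 ∨ a = t) → ∀ k ∈ K, a * k ∈ D → a * k = 1 := by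
    intro a ha k hk hak
    have h0 : a * k ∈ C₀X := mul_mem (by rcases ha with rfl | rfl; exacts [one_mem _, ht₀]) (hK₀ hk)
    exact congrArg Subtype.val (hφinj ⟨_, hak⟩ ((hmem₀ _ _).1 h0))
  -- moving `S`
  have hmoves : ∃ k ∈ K, k ∈ normalizer ((S : Subgroup X) : Set X) ∧
      ∃ s ∈ (S : Subgroup X), k * s * k⁻¹ ≠ s := by
    have hO : Cfsg.oddCore C₀X = ⊥ := by
      set V := Cfsg.oddCore C₀X
      have hV : Odd (Nat.card V) := by
        rw [← Nat.not_even_iff_odd, even_iff_two_dvd]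
        exact Coprime.pPrimeCore_not_dvd Nat.prime_two
      haveI : (V.map π).Normal := Subgroup.Normal.map inferInstance π hπsurj
      have hVbot := eq_bot_of_normal_odd (oddCore_psl hoddF) _ (hV.of_dvd_nat (card_map_dvd V π))
      rw [eq_bot_iff]
      intro x hx
      have hπx : π x = 1 := by
        have : π x ∈ V.map π := mem_map_of_mem _ hx
        rwa [hVbot, mem_bot] at this
      refine mem_bot.2 (Subtype.ext ((hπker x hπx).resolve_right fun e => ?_))
      have := hV.of_dvd_nat (Subgroup.orderOf_dvd_natCard _ hx)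
      rw [← Subgroup.orderOf_coe, e, ht] at this
      exact absurd this (by decide)
    obtain ⟨n, hn, s, hs, hne⟩ := exists_moving (S.subtype hS₀) hO
      ((three_dvd_card_psl hoddF).trans (card_dvd_of_surjective π hπsurj))
    obtain ⟨a, ha, k, hk, hnk⟩ := hdec₀ _ n.2
    have haS : a ∈ (S : Subgroup X) := by rcases ha with rfl | rfl; exacts [one_mem _, htS]
    have hnN : (n : X) ∈ normalizer ((S : Subgroup X) : Set X) := by
      refine mem_normalizer_iff.2 fun y => ?_
      constructor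
      · intro hy
        exact (mem_normalizer_iff.1 hn ⟨y, hS₀ hy⟩).1 hy
      · intro hy
        have hy0 : y ∈ C₀X := by
          have := mul_mem (mul_mem (inv_mem n.2) (hS₀ hy)) n.2
          rwa [show (n : X)⁻¹ * ((n : X) * y * (n : X)⁻¹) * n = y by group] at this
        exact (mem_normalizer_iff.1 hn ⟨y, hy0⟩).2 hy
    have hkn : k = a⁻¹ * (n : X) := by rw [hnk]; group
    refine ⟨k, hk, hkn ▸ mul_mem (le_normalizer (inv_mem haS)) hnN, (s : X), hs, fun e => hne ?_⟩
    refine Subtype.ext ?_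
    show (n : X) * s * (n : X)⁻¹ = s
    rw [hnk, show a * k * (s : X) * (a * k)⁻¹ = a * (k * s * k⁻¹) * a⁻¹ by group, e,
      hcomm S haS (show (s : X) ∈ (S : Subgroup X) from hs), mul_inv_cancel_right]
  refine ⟨{
    t := t
    S := S
    ht := ht
    htS := htS
    hS := hSe
    h8 := h8
    F := L.F
    five_le := L.five_le
    mod_eight := L.mod_eight
    K := K
    D := D
    e := eK
    K_comm := fun k hk => mem_centralizer_singleton_iff.1 (hC₀le (hK₀ hk))
    t_notMem := ht_notK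
    mem_D := hmemD
    D_cyc := hDcyc
    K_map := hK_map
    decomp := ?_
    disj := hdisj
    moves := hmoves
    cent := ?_ }, rfl⟩
  · intro x hx
    have hxC : x ∈ Cx := mem_centralizer_singleton_iff.2 hx.eq
    -- bring `x` into the normalizer of `S`
    obtain ⟨c, hc, hcx⟩ := exists_mul_mem_normalizer S hS₀ (n := x) fun s hs => by
      refine (hmem₀ _ (mul_mem (mul_mem hxC (hSC hs)) (inv_mem hxC))).2 ?_
      show ψ (⟨x, hxC⟩ * ⟨s, hSC hs⟩ * (⟨x, hxC⟩ : Cx)⁻¹) = 1
      rw [map_mul, map_mul, map_inv, (hmem₀ s (hSC hs)).1 (hS₀ hs), mul_one, mul_inv_cancel]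
    -- elements of `N(S) ∩ C(t)` whose square centralizes `S` centralize it
    have hsqc : ∀ n ∈ normalizer ((S : Subgroup X) : Set X),
        (∀ s ∈ (S : Subgroup X), Commute (n * n) s) → ∀ s ∈ (S : Subgroup X), Commute n s := by
      intro n hn hn2 s hs
      obtain ⟨a, b, hb, hab⟩ := Nat.exists_eq_two_pow_mul_odd (orderOf_pos n).ne'
      have hnb : n ^ b ∈ (S : Subgroup X) := by
        have hk : (n ^ b) ^ 2 ^ a = 1 := by rw [← pow_mul, mul_comm, ← hab, pow_orderOf_eq_one]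
        obtain ⟨i, -, hi⟩ := (Nat.dvd_prime_pow Nat.prime_two).1 (orderOf_dvd_of_pow_eq_one hk)
        exact PGroup.CSylow.le_sylow_of_le_normalizer S
          (IsPGroup.of_card (p := 2) (n := i) (by rw [Nat.card_zpowers, hi]))
          (zpowers_le.2 (pow_mem hn b)) (mem_zpowers _)
      obtain ⟨j, rfl⟩ := hb
      have h1 : n = n ^ (2 * j + 1) * ((n * n) ^ j)⁻¹ := by
        rw [eq_mul_inv_iff_mul_eq, ← pow_two, ← pow_mul, ← pow_succ']
      rw [h1]
      exact (show Commute _ s from hcomm S hnb hs).mul_left ((hn2 s hs).pow_left j).inv_left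
    obtain ⟨m, hm, hmN, s₀, hs₀, hms₀⟩ := hmoves
    have hSVdec : ∀ s ∈ (S : Subgroup X), ∃ a, (a = 1 ∨ a = t) ∧ ∃ v, v ∈ (S : Subgroup X) ∧ v ∈ K ∧
        s = a * v := by
      intro s hs
      obtain ⟨a, ha, k, hk, rfl⟩ := hdec₀ s (hS₀ hs)
      refine ⟨a, ha, k, ?_, hk, rfl⟩
      have haS : a ∈ (S : Subgroup X) := by rcases ha with rfl | rfl; exacts [one_mem _, htS]
      have := mul_mem (inv_mem haS) hs
      rwa [inv_mul_cancel_left] at this
    set P : Finset X := by
      letI := Fintype.ofFinite X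
      exact Finset.univ.filter (fun v => v ∈ (S : Subgroup X) ∧ v ∈ K ∧ v ≠ 1) with hP
    have hmemP : ∀ v, v ∈ P ↔ v ∈ (S : Subgroup X) ∧ v ∈ K ∧ v ≠ 1 := fun v => by simp [hP]
    have hPcard : P.card ≤ 3 := by
      by_contra hlt
      have hinj : Function.Injective (fun p : Bool × ↥(insert (1 : X) P) =>
          (⟨(if p.1 then t else 1) * (p.2 : X), mul_mem (by split_ifs; exacts [htS, one_mem _]) (by
            rcases Finset.mem_insert.1 p.2.2 with h | h
            · rw [h]; exact one_mem _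
            · exact ((hmemP _).1 h).1)⟩ : (S : Subgroup X))) := by
        have hinK : ∀ p : ↥(insert (1 : X) P), (p : X) ∈ K := fun p => by
          rcases Finset.mem_insert.1 p.2 with h | h
          · rw [h]; exact one_mem _
          · exact ((hmemP _).1 h).2.1
        rintro ⟨a, p⟩ ⟨b, q⟩ h
        have h' : (if a then t else 1) * (p : X) = (if b then t else 1) * (q : X) := congrArg Subtype.val h
        cases a <;> cases b <;> simp at h'
        · rw [h']
        · exact absurd (eq_mul_inv_of_mul_eq h'.symm ▸ mul_mem (hinK p) (inv_mem (hinK q))) ht_notK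
        · exact absurd (eq_mul_inv_of_mul_eq h' ▸ mul_mem (hinK q) (inv_mem (hinK p))) ht_notK
        · rw [h']
      have hcard := Nat.card_le_card_of_injective _ hinj
      rw [Nat.card_prod, Nat.card_eq_fintype_card (α := Bool), Fintype.card_bool, h8,
        Nat.card_eq_finsetCard, Finset.card_insert_of_notMem (fun h => ((hmemP 1).1 h).2.2 rfl)] at hcard
      omega
    -- an element fixing a point of `P` centralizes `S`
    have hact : ∀ n ∈ normalizer ((S : Subgroup X) : Set X), Commute n t → ∀ v ∈ P, n * v * n⁻¹ ∈ P := by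
      intro n hn hnt v hv
      obtain ⟨hvS, hvK, hv1⟩ := (hmemP v).1 hv
      refine (hmemP _).2 ⟨(mem_normalizer_iff.1 hn v).1 hvS, ?_, fun e => hv1 (conj_eq_one_iff.1 e)⟩
      exact hK_map (MulAut.conj n) (by rw [MulAut.conj_apply, hnt.eq, mul_inv_cancel_right]) v hvK
    have hfixall : ∀ n ∈ normalizer ((S : Subgroup X) : Set X), Commute n t → ∀ v ∈ P,
        n * v * n⁻¹ = v → ∀ s ∈ (S : Subgroup X), Commute n s := by
      intro n hn hnt v hv hnv
      refine hsqc n hn fun s hs => ?_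
      obtain ⟨a, ha, w, hwS, hwK, rfl⟩ := hSVdec s hs
      refine Commute.mul_right (by rcases ha with rfl | rfl; exacts [Commute.one_right _, hnt.mul_left hnt]) ?_
      by_cases hw1 : w = 1
      · rw [hw1]; exact Commute.one_right _
      have hwP : w ∈ P := (hmemP w).2 ⟨hwS, hwK, hw1⟩
      have hnvc : Commute n v := mul_inv_eq_iff_eq_mul.1 hnv
      by_cases hwv : w = v
      · rw [hwv]; exact hnvc.mul_left hnvc
      set w₁ := n * w * n⁻¹ with hw₁
      have hw₁P := hact n hn hnt w hwP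
      have hw₁v : w₁ ≠ v := fun e => hwv (mul_left_cancel (mul_right_cancel (e.trans hnv.symm)))
      have hw₂P := hact n hn hnt w₁ hw₁P
      have hw₂v : n * w₁ * n⁻¹ ≠ v := fun e => hw₁v (mul_left_cancel (mul_right_cancel (e.trans hnv.symm)))
      refine mul_inv_eq_iff_eq_mul.1 (?_ : n * n * w * (n * n)⁻¹ = w)
      rw [show n * n * w * (n * n)⁻¹ = n * w₁ * n⁻¹ by rw [hw₁]; group]
      by_contra hne2
      by_cases hw₁w : w₁ = w
      · exact hne2 (by rw [hw₁w]; exact hw₁.symm.trans hw₁w)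
      have hw₂w₁ : n * w₁ * n⁻¹ ≠ w₁ := fun e => hw₁w
        (mul_left_cancel (mul_right_cancel (e.trans hw₁)))
      have h4 : ({v, w, w₁, n * w₁ * n⁻¹} : Finset X).card = 4 := by
        rw [Finset.card_insert_of_notMem, Finset.card_insert_of_notMem, Finset.card_insert_of_notMem,
          Finset.card_singleton] <;> simp [Ne.symm hwv, Ne.symm hw₁v, Ne.symm hw₂v, Ne.symm hw₁w,
          Ne.symm hne2, Ne.symm hw₂w₁]
      have hsub : ({v, w, w₁, n * w₁ * n⁻¹} : Finset X) ⊆ P := by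
        intro y hy
        simp only [Finset.mem_insert, Finset.mem_singleton] at hy
        rcases hy with rfl | rfl | rfl | rfl
        exacts [hv, hwP, hw₁P, hw₂P]
      have := Finset.card_le_card hsub
      omega
    have hmt : Commute m t := mem_centralizer_singleton_iff.1 (hC₀le (hK₀ hm))
    have hmfree : ∀ v ∈ P, m * v * m⁻¹ ≠ v := fun v hv e =>
      hms₀ (mul_inv_eq_iff_eq_mul.2 (hfixall m hmN hmt v hv e s₀ hs₀))
    obtain ⟨v, hv⟩ : ∃ v, v ∈ P := by
      obtain ⟨a, ha, w, hwS, hwK, rfl⟩ := hSVdec s₀ hs₀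
      refine ⟨w, (hmemP w).2 ⟨hwS, hwK, fun e => hms₀ ?_⟩⟩
      subst e
      rcases ha with rfl | rfl
      · group
      · rw [mul_one, hmt.eq, mul_inv_cancel_right]
    set n := c * x with hn
    have hnt : Commute n t := (show Commute c t from mem_centralizer_singleton_iff.1 (hC₀le hc)).mul_left hx
    have hv₁P := hact m hmN hmt v hv
    have hv₂P := hact m hmN hmt _ hv₁P
    have hv20 : m * (m * v * m⁻¹) * m⁻¹ ≠ v := by
      intro e
      have h2fix := hfixall (m * m) (mul_mem hmN hmN) (hmt.mul_left hmt) v hv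
        (by rw [show m * m * v * (m * m)⁻¹ = m * (m * v * m⁻¹) * m⁻¹ by group, e])
      exact hms₀ (mul_inv_eq_iff_eq_mul.2 (hsqc m hmN h2fix s₀ hs₀))
    have h3 : ({v, m * v * m⁻¹, m * (m * v * m⁻¹) * m⁻¹} : Finset X) = P := by
      refine Finset.eq_of_subset_of_card_le ?_ ?_
      · intro y hy
        simp only [Finset.mem_insert, Finset.mem_singleton] at hy
        rcases hy with rfl | rfl | rfl
        exacts [hv, hv₁P, hv₂P]
      · rw [Finset.card_insert_of_notMem, Finset.card_insert_of_notMem, Finset.card_singleton]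
        · exact hPcard
        · simp only [Finset.mem_singleton]
          exact Ne.symm (hmfree _ hv₁P)
        · simp only [Finset.mem_insert, Finset.mem_singleton, not_or]
          exact ⟨Ne.symm (hmfree v hv), Ne.symm hv20⟩
    obtain ⟨j, hj⟩ : ∃ j : ℕ, n * v * n⁻¹ = m ^ j * v * (m ^ j)⁻¹ := by
      have := hact n hcx hnt v hv
      rw [← h3] at this
      simp only [Finset.mem_insert, Finset.mem_singleton] at this
      rcases this with h | h | h
      · exact ⟨0, by rw [h]; simp⟩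
      · exact ⟨1, by rw [h, pow_one]⟩
      · exact ⟨2, by rw [h, pow_two]; group⟩
    have hcent : ∀ s ∈ (S : Subgroup X), Commute ((m ^ j)⁻¹ * n) s :=
      hfixall _ (mul_mem (inv_mem (pow_mem hmN j)) hcx) ((hmt.pow_left j).inv_left.mul_left hnt) v hv (by
        rw [show (m ^ j)⁻¹ * n * v * ((m ^ j)⁻¹ * n)⁻¹ = (m ^ j)⁻¹ * (n * v * n⁻¹) * m ^ j by group, hj]
        group)
    obtain ⟨s, hs, d, hd, hsd⟩ := EqConj.cent_prod S hSe (x := (m ^ j)⁻¹ * n)
      (mem_centralizer_iff.2 fun s hs => (hcent s hs).eq.symm)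
    have hy0 : c⁻¹ * m ^ j * s ∈ C₀X := mul_mem (mul_mem (inv_mem hc) (pow_mem (hK₀ hm) j)) (hS₀ hs)
    obtain ⟨a, ha, k, hk, hak⟩ := hdec₀ _ hy0
    refine ⟨a, ha, k, hk, d, hd, ?_⟩
    rw [← hak, mul_assoc _ s d, ← hsd, hn]
    group
  · intro d hd
    obtain ⟨hfa, hfb⟩ := hfix ⟨d, hDC hd⟩ ((hmemD d).1 hd).1
    obtain ⟨F₁, i1, i2, hcard, ⟨e₁⟩⟩ := BGroup.cent_equiv h2 (hφodd ⟨d, hd⟩) ha₀ hb₀ hne₀ hab₀ hfa hfb
    have hord : orderOf (L.φ ⟨d, hDC hd⟩) = orderOf d := by
      let f : D →* MulAut (Matrix.ProjectiveSpecialLinearGroup (Fin 2) L.F) := L.φ.comp (inclusion hDC)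
      have hf : Function.Injective f := (injective_iff_map_eq_one f).2 fun y hy => hφinj y (by
        show CfsgLib.GW.fieldPartHom (f y) = 1
        rw [hy, map_one])
      rw [← Subgroup.orderOf_mk d hd]
      exact orderOf_injective f hf ⟨d, hd⟩
    rw [hord] at hcard
    refine ⟨F₁, i1, i2, hcard, ?_⟩
    set β := L.φ ⟨d, hDC hd⟩ with hβ
    have hdt : MulAut.conj d t = t := by
      rw [MulAut.conj_apply, (((hmemD d).1 hd).1 t htS).eq, mul_inv_cancel_right]
    have heq : ∀ k : K, eK ⟨MulAut.conj d k, hK_map _ hdt k k.2⟩ = β (eK k) := by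
      intro k
      refine L.conj_injective ?_
      have hl : MulAut.conj (eK ⟨MulAut.conj d k, hK_map _ hdt k k.2⟩) =
          L.φ ⟨MulAut.conj d k, hC₀le (hK₀ (hK_map _ hdt k k.2))⟩ := (hπ _).symm
      have hr : MulAut.conj (eK k) = L.φ ⟨k, hC₀le (hK₀ k.2)⟩ := (hπ _).symm
      rw [hl]
      have hconj : MulAut.conj (β (eK k)) = β * MulAut.conj (eK k) * β⁻¹ := by
        refine MulEquiv.ext fun y => ?_
        simp only [MulAut.mul_apply, MulAut.conj_apply, map_mul, map_inv, MulAut.apply_inv_self]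
      rw [hconj, hr, hβ, ← map_inv, ← map_mul, ← map_mul]
      exact congrArg L.φ (Subtype.ext rfl)
    have hmap : ((K ⊓ centralizer ({d} : Set X)).subgroupOf K).map eK.toMonoidHom =
        MonoidHom.eqLocus β.toMonoidHom (MonoidHom.id _) := by
      ext y
      constructor
      · rintro ⟨k, hk, rfl⟩
        show β (eK k) = eK k
        rw [← heq]
        refine congrArg eK (Subtype.ext ?_)
        show d * k * d⁻¹ = k
        have hc : (k : X) * d = d * k := mem_centralizer_singleton_iff.1 (mem_inf.1 hk).2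
        rw [← hc, mul_inv_cancel_right]
      · intro hy
        obtain ⟨k, rfl⟩ := eK.surjective y
        refine ⟨k, mem_inf.2 ⟨k.2, mem_centralizer_singleton_iff.2 ?_⟩, rfl⟩
        have h : β (eK k) = eK k := hy
        rw [← heq] at h
        have h' : d * k * d⁻¹ = (k : X) := congrArg Subtype.val (eK.injective h)
        exact (mul_inv_eq_iff_eq_mul.1 h').symm
    exact ⟨(((subgroupOfEquivOfLe inf_le_left).symm.trans (eK.subgroupMap _)).trans
      (MulEquiv.subgroupCongr hmap)).trans e₁⟩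

/-- The data exists in a setting when the odd core is trivial and `C(t)` is not solvable. -/
theorem exists_frame (hX : Setting X) (hS : ∀ S : Sylow 2 X, Nat.card (S : Subgroup X) = 8)
    {t : X} (ht : orderOf t = 2) (hcore : O t = ⊥)
    (hns : ¬ Group.IsSolvable ↥(centralizer ({t} : Set X))) :
    ∃ Φ : Frame X, Φ.t = t :=
  exists_frame_of_exp hX.exp_two hS ht hcore hns

end CfsgLib.BGroup.FieldKill
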