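import Cfsg.Agent.Lib.BGroup.FieldKill.Sect
import Cfsg.Agent.Lib.Invol.RetractTransfer
import Cfsg.Agent.Lib.Invol.SimpleSixty
import Cfsg.Agent.S1644

/-!
# The field part is trivial
-/

set_option autoImplicit false
set_option linter.unusedSectionVars false
set_option linter.style.haveILetI false

namespace CfsgLib.BGroup.FieldKill

open Subgroup

universe u

variable {X : Type u} [Group X] [Finite X]

theorem conj_mem_map_of_normal {C : Subgroup X} (J : Subgroup C) [hJ : J.Normal] {u w : X} (hu : u ∈ C)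
    (hw : w ∈ J.map C.subtype) : u * w * u⁻¹ ∈ J.map C.subtype := by
  obtain ⟨g, hg, rfl⟩ := hw
  exact ⟨_, hJ.conj_mem g hg ⟨u, hu⟩, rfl⟩

theorem map_centralizer_equiv {G H : Type u} [Group G] [Group H] (f : G ≃* H) (u : G) :
    (centralizer ({u} : Set G)).map f.toMonoidHom = centralizer ({f u} : Set H) := by
  ext y
  simp only [mem_map_equiv, mem_centralizer_singleton_iff]
  constructor
  · intro h
    have := congrArg f h
    rwa [map_mul, map_mul, MulEquiv.apply_symm_apply] at this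
  · intro h
    apply f.injective
    rwa [map_mul, map_mul, MulEquiv.apply_symm_apply]

namespace Frame

variable (Φ : Frame X) (hX : Setting X)
include Φ hX

/-- A prime divisor of `|D|` does not divide `|K|`. -/
theorem not_dvd_K {r : ℕ} [hr : Fact r.Prime] (hd : r ∣ Nat.card Φ.D) : ¬ r ∣ Nat.card Φ.K := by
  intro hk
  obtain ⟨d, hdo⟩ := exists_prime_orderOf_dvd_card' (G := Φ.D) r hd
  obtain ⟨k, hko⟩ := exists_prime_orderOf_dvd_card' (G := Φ.K) r hk
  rw [← Subgroup.orderOf_coe] at hdo hko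
  have hdC : (d : X) ∈ centralizer ({Φ.t} : Set X) := mem_centralizer_singleton_iff.2 (Φ.D_comm_t d.2).eq
  have hkC : (k : X) ∈ centralizer ({Φ.t} : Set X) := mem_centralizer_singleton_iff.2 (Φ.K_comm k k.2).eq
  obtain ⟨f, -, hft, hmap⟩ := hX.fuse_cent Φ.ht (zpowers_le.2 hkC) (zpowers_le.2 hdC) inferInstance
    inferInstance (by
      rw [Nat.card_zpowers, hko, ← hdo]
      exact ((Φ.mem_D _).1 d.2).2)
    (by rw [Nat.card_zpowers, Nat.card_zpowers, hko, hdo])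
  obtain ⟨y, hy, hyd⟩ := hmap.symm ▸ mem_zpowers (d : X)
  have hK : f y ∈ Φ.K := Φ.K_map f hft y (zpowers_le.2 k.2 hy)
  have h := Φ.disj 1 (Or.inl rfl) (d : X) (hyd ▸ hK) (by rw [one_mul]; exact d.2)
  rw [one_mul] at h
  rw [h, orderOf_one] at hdo
  exact hr.out.ne_one hdo.symm

theorem three_not_dvd : ¬ 3 ∣ Nat.card Φ.D := by
  haveI : Fact (Nat.Prime 3) := ⟨Nat.prime_three⟩
  intro h
  exact Φ.not_dvd_K hX h ((three_dvd_card_psl Φ.two_ne).trans (Nat.card_congr Φ.e.toEquiv).symm.dvd)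

/-- The normalizer of `S` is transitive on its involutions. -/
theorem fus {a : X} (ha : a ∈ (Φ.S : Subgroup X)) (ha1 : a ≠ 1) :
    ∃ n ∈ normalizer ((Φ.S : Subgroup X) : Set X), n * Φ.t * n⁻¹ = a := by
  obtain ⟨k, -, hkn, s, hs, hne⟩ := Φ.moves
  refine transitive_of_normal (Φ.S : Subgroup X) Φ.h8
    (fun m hm s hs => (mem_normalizer_iff.1 hm s).1 hs)
    (fun a ha ha1 b hb hb1 => ?_) ⟨k, hkn, s, hs, hne⟩ Φ.t Φ.htS (Invol.invol_ne_one Φ.ht) a ha ha1
  obtain ⟨f, hf, hfS, hfa⟩ := hX.exists_stab_invol Φ.S ha hb ha1 hb1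
  refine ⟨f, hfa, fun m hm => mem_normalizer_iff.2 fun y => ?_⟩
  obtain ⟨y, rfl⟩ := (f : MulAut X).surjective y
  have hst := (mem_stab hf hfS).2
  rw [← map_inv, ← map_mul, ← map_mul, hst, hst]
  exact mem_normalizer_iff.1 hm y

/-- `N(S)` centralizes `D`. -/
theorem normalizer_cent {n : X} (hn : n ∈ normalizer ((Φ.S : Subgroup X) : Set X)) :
    n ∈ centralizer (Φ.D : Set X) := by
  set N := normalizer ((Φ.S : Subgroup X) : Set X) with hN
  obtain ⟨k, hk, hkn, s, hs, hne⟩ := Φ.moves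
  have hstab : ∀ m ∈ N, Commute m Φ.t → m ∈ centralizer (Φ.D : Set X) := by
    intro m hm hmt
    refine mem_centralizer_iff.2 fun d hd => ?_
    obtain ⟨a, ha, k, hk, e, he, hme⟩ := Φ.decomp m hmt
    have ha' : a ∈ (Φ.S : Subgroup X) := by rcases ha with rfl | rfl; exacts [one_mem _, Φ.htS]
    have hkN : k ∈ N := by
      have : k = a⁻¹ * m * e⁻¹ := by rw [hme]; group
      rw [this]
      refine mul_mem (mul_mem (le_normalizer (inv_mem ha')) hm) (inv_mem ?_)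
      exact centralizer_le_normalizer _ (mem_centralizer_iff.2 fun s hs => (Φ.D_comm_S he hs).eq.symm)
    rw [hme]
    exact (((Φ.D_comm_S hd ha').mul_right (Φ.K_fix hk hkN hd).symm).mul_right (Φ.D_comm hd he)).eq
  have hconjD : ∀ m ∈ N, ∀ x ∈ centralizer (Φ.D : Set X), m * x * m⁻¹ ∈ centralizer (Φ.D : Set X) := by
    intro m hm x hx
    refine mem_centralizer_iff.2 fun d hd => ?_
    have hd' := Φ.D_conj (inv_mem hm) hd
    rw [inv_inv] at hd'
    have h := mem_centralizer_iff.1 hx _ hd'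
    calc d * (m * x * m⁻¹) = m * (m⁻¹ * d * m * x) * m⁻¹ := by group
      _ = m * (x * (m⁻¹ * d * m)) * m⁻¹ := by rw [h]
      _ = m * x * m⁻¹ * d := by group
  obtain ⟨m, hm, hmt⟩ := transitive_of_normal (Φ.S : Subgroup X) Φ.h8
    (M := N ⊓ centralizer (Φ.D : Set X))
    (fun m hm s hs => (mem_normalizer_iff.1 (mem_inf.1 hm).1 s).1 hs)
    (fun a ha ha1 b hb hb1 => by
      obtain ⟨u, hu, hua⟩ := Φ.fus hX ha ha1
      obtain ⟨v, hv, hvb⟩ := Φ.fus hX hb hb1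
      refine ⟨MulAut.conj (v * u⁻¹), ?_, fun m hm => mem_inf.2 ⟨?_, ?_⟩⟩
      · rw [MulAut.conj_apply, ← hua, ← hvb]; group
      · exact mul_mem (mul_mem (mul_mem hv (inv_mem hu)) (mem_inf.1 hm).1) (inv_mem (mul_mem hv (inv_mem hu)))
      · exact hconjD _ (mul_mem hv (inv_mem hu)) m (mem_inf.1 hm).2)
    ⟨k, mem_inf.2 ⟨hkn, mem_centralizer_iff.2 fun d hd => (Φ.K_fix hk hkn hd).eq.symm⟩, s, hs, hne⟩
    Φ.t Φ.htS (Invol.invol_ne_one Φ.ht) (n * Φ.t * n⁻¹) ((mem_normalizer_iff.1 hn _).1 Φ.htS)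
    (fun e => Invol.invol_ne_one Φ.ht (conj_eq_one_iff.1 e))
  obtain ⟨hmN, hmD⟩ := mem_inf.1 hm
  have hc : Commute (m⁻¹ * n) Φ.t :=
    calc m⁻¹ * n * Φ.t = m⁻¹ * (n * Φ.t * n⁻¹) * n := by group
      _ = m⁻¹ * (m * Φ.t * m⁻¹) * n := by rw [hmt]
      _ = Φ.t * (m⁻¹ * n) := by group
  have := mul_mem hmD (hstab _ (mul_mem (inv_mem hmN) hn) hc)
  rwa [mul_inv_cancel_left] at this

theorem cent_le {D₁ : Subgroup X} (hD₁ : D₁ ≤ Φ.D) :
    centralizer (Φ.D : Set X) ≤ centralizer (D₁ : Set X) := centralizer_le hD₁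

theorem S_le_cent {D₁ : Subgroup X} (hD₁ : D₁ ≤ Φ.D) :
    (Φ.S : Subgroup X) ≤ centralizer (D₁ : Set X) := fun _ hs =>
  mem_centralizer_iff.2 fun _ hd => (Φ.D_comm_S (hD₁ hd) hs).eq

/-- A subgroup of `D` is centralized by its normalizer. -/
theorem normalizer_eq {D₁ : Subgroup X} (hD₁ : D₁ ≤ Φ.D) :
    normalizer (D₁ : Set X) ≤ centralizer (D₁ : Set X) := by
  intro n hn
  obtain ⟨c, hc, hcn⟩ := exists_mul_mem_normalizer Φ.S (Φ.S_le_cent hX hD₁) (n := n) fun s hs => by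
    refine mem_centralizer_iff.2 fun d hd => ?_
    have hd' : n⁻¹ * d * n ∈ D₁ := by
      have := (mem_normalizer_iff.1 (inv_mem hn) d).1 hd
      rwa [inv_inv] at this
    have h : Commute (n⁻¹ * d * n) s := Φ.D_comm_S (hD₁ hd') hs
    calc d * (n * s * n⁻¹) = n * (n⁻¹ * d * n * s) * n⁻¹ := by group
      _ = n * (s * (n⁻¹ * d * n)) * n⁻¹ := by rw [h.eq]
      _ = n * s * n⁻¹ * d := by group
  have := mul_mem (inv_mem hc) (Φ.cent_le hX hD₁ (Φ.normalizer_cent hX hcn))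
  rwa [inv_mul_cancel_left] at this

/-- An element of prime order dividing `|D|` is centralized by what normalizes the group it
generates. -/
theorem commute_of_normalizes {r : ℕ} [hr : Fact r.Prime] (hd : r ∣ Nat.card Φ.D) {y n : X}
    (hy : orderOf y = r) (hn : n * y * n⁻¹ ∈ zpowers y) : n * y * n⁻¹ = y := by
  obtain ⟨d, hdo⟩ := exists_prime_orderOf_dvd_card' (G := Φ.D) r hd
  rw [← Subgroup.orderOf_coe] at hdo
  obtain ⟨f, -, hmap⟩ := hX.fuse (zpowers y) (zpowers (d : X)) inferInstance inferInstance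
    (by rw [Nat.card_zpowers, Nat.card_zpowers, hy, hdo])
  have hmem : ∀ z ∈ zpowers y, f z ∈ zpowers (d : X) := fun z hz => hmap ▸ mem_map_of_mem _ hz
  have hgen : zpowers (f y) = zpowers (d : X) := eq_of_le_of_card_ge (zpowers_le.2 (hmem y (mem_zpowers y)))
    (by rw [Nat.card_zpowers, Nat.card_zpowers, MulEquiv.orderOf_eq, hy, hdo])
  have h1 : f n * f y * (f n)⁻¹ ∈ zpowers (d : X) := by
    rw [← map_inv, ← map_mul, ← map_mul]
    exact hmem _ hn
  have hfn : f n ∈ normalizer ((zpowers (d : X) : Subgroup X) : Set X) := by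
    have hmap' : (zpowers (d : X)).map (MulAut.conj (f n)).toMonoidHom = zpowers (d : X) := by
      refine eq_of_le_of_card_ge ?_ (by rw [card_map_of_injective (MulAut.conj (f n)).injective])
      rw [← hgen, MonoidHom.map_zpowers, zpowers_le, hgen]
      exact h1
    refine mem_normalizer_iff.2 fun z => ?_
    conv_rhs => rw [← hmap']
    exact (mem_map_iff_mem (MulAut.conj (f n)).injective).symm
  have hc := mem_centralizer_iff.1 (Φ.normalizer_eq hX (zpowers_le.2 d.2) hfn) (f y)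
    (hgen ▸ mem_zpowers (f y))
  apply f.injective
  rw [map_mul, map_mul, map_inv, ← hc, mul_inv_cancel_right]

/-- An element of order three commuting with no involution is impossible in a section. -/
theorem false_of_free {D₁ N : Subgroup X} (h : Sect Φ D₁ N) [(D₁.subgroupOf N).Normal]
    (hfree : HasFreeThree (N ⧸ D₁.subgroupOf N)) : False := by
  haveI : Fact (Nat.Prime 3) := ⟨Nat.prime_three⟩
  set π := QuotientGroup.mk' (D₁.subgroupOf N)
  obtain ⟨zb, hzo, hzf⟩ := hfree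
  obtain ⟨x, rfl⟩ := QuotientGroup.mk'_surjective _ zb
  have h3 : ¬ 3 ∣ Nat.card D₁ := fun h' => Φ.three_not_dvd hX (h'.trans (card_dvd_of_le h.D₁_le))
  have hx3 : ((x ^ 3 : N) : X) ∈ D₁ := by
    refine (QuotientGroup.eq_one_iff (N := D₁.subgroupOf N) (x ^ 3)).1 ?_
    show π (x ^ 3) = 1
    rw [map_pow, ← hzo, pow_orderOf_eq_one]
  set z : N := x ^ Nat.card D₁ with hz
  have hz3 : z ^ 3 = 1 := by
    apply Subtype.ext
    rw [hz, ← pow_mul, mul_comm, pow_mul, Subgroup.coe_pow]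
    exact congrArg Subtype.val (pow_card_eq_one' (G := D₁) (x := ⟨_, hx3⟩))
  have hπz : π z ≠ 1 := by
    rw [hz, map_pow]
    intro e
    have := orderOf_dvd_of_pow_eq_one e
    rw [hzo] at this
    exact h3 this
  have hzX : orderOf (z : X) = 3 := by
    rw [Subgroup.orderOf_coe]
    exact orderOf_eq_prime hz3 fun e => hπz (by rw [e, map_one])
  -- an element of order three in `K`
  obtain ⟨F₁, _, _, hF₁, ⟨e₁⟩⟩ := Φ.cent_sub h.D₁_le
  have hodd₁ : Odd (Fintype.card F₁) :=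
    (Φ.two_ne).of_dvd_nat (hF₁ ▸ dvd_pow_self _ Nat.card_pos.ne')
  obtain ⟨σ, hσ⟩ := exists_prime_orderOf_dvd_card' (G := ↥(Φ.K ⊓ centralizer (D₁ : Set X))) 3
    ((three_dvd_card_psl hodd₁).trans (Nat.card_congr e₁.toEquiv).symm.dvd)
  obtain ⟨hσK, hσD⟩ := mem_inf.1 σ.2
  rw [← Subgroup.orderOf_coe] at hσ
  haveI := Φ.D_cyc
  haveI : IsCyclic D₁ := isCyclic_of_injective (inclusion h.D₁_le) (inclusion_injective h.D₁_le)
  obtain ⟨d, hd⟩ := IsCyclic.exists_ofOrder_eq_natCard (α := D₁)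
  rw [← Subgroup.orderOf_coe] at hd
  have hco : Nat.Coprime 3 (orderOf (d : X)) := by
    rw [hd]; exact Nat.prime_three.coprime_iff_not_dvd.2 h3
  have hzd : Commute (z : X) d := h.commute z.2 d.2
  have hσd : Commute (σ : X) d := (mem_centralizer_iff.1 hσD d d.2).symm
  have hoz : orderOf ((z : X) * d) = 3 * Nat.card D₁ := by
    rw [hzd.orderOf_mul_eq_mul_orderOf_of_coprime (by rw [hzX]; exact hco), hzX, hd]
  have hoσ : orderOf ((σ : X) * d) = 3 * Nat.card D₁ := by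
    rw [hσd.orderOf_mul_eq_mul_orderOf_of_coprime (by rw [hσ]; exact hco), hσ, hd]
  obtain ⟨f, -, hmap⟩ := hX.fuse (zpowers ((z : X) * d)) (zpowers ((σ : X) * d)) inferInstance inferInstance
    (by rw [Nat.card_zpowers, Nat.card_zpowers, hoz, hoσ])
  set u := f.symm Φ.t with hu
  have hu2 : orderOf u = 2 := by rw [hu, MulEquiv.orderOf_eq, Φ.ht]
  have hct : Commute ((σ : X) * d) Φ.t := (Φ.K_comm _ hσK).mul_left (Φ.D_comm_t (h.D₁_le d.2))
  have hcu : ∀ w ∈ zpowers ((z : X) * d), Commute w u := by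
    intro w hw
    obtain ⟨i, hi⟩ := mem_zpowers_iff.1 (hmap ▸ mem_map_of_mem _ hw : f w ∈ zpowers ((σ : X) * d))
    have h1 : Commute (f w) Φ.t := hi ▸ hct.zpow_left i
    have h2 := h1.map f.symm.toMonoidHom
    simp only [MulEquiv.coe_toMonoidHom, MulEquiv.symm_apply_apply] at h2
    exact h2
  have huz : Commute (z : X) u := hcu _ (mem_zpowers_mul hzd (by rw [hzX]; exact hco))
  have hud : Commute (d : X) u := by
    refine hcu _ ?_
    have := mem_zpowers_mul hzd.symm (by rw [hzX]; exact hco.symm)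
    rwa [← hzd.eq] at this
  have huC : u ∈ centralizer (D₁ : Set X) := by
    refine mem_centralizer_iff.2 fun w hw => ?_
    have htop : zpowers d = ⊤ := Subgroup.eq_top_of_card_eq _
      (by rw [Nat.card_zpowers, ← Subgroup.orderOf_coe, hd])
    obtain ⟨i, hi⟩ := mem_zpowers_iff.1 (htop.symm ▸ mem_top (⟨w, hw⟩ : D₁) : (⟨w, hw⟩ : D₁) ∈ zpowers d)
    have : w = (d : X) ^ i := (congrArg Subtype.val hi).symm.trans (Subgroup.coe_zpow _ _ _)
    rw [this]
    exact (hud.zpow_left i).eq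
  have huN := h.invol u hu2 huC
  have huπ : orderOf (π ⟨u, huN⟩) = 2 := by
    refine Invol.invol_iff.2 ⟨?_, fun e => ?_⟩
    · rw [← map_mul, show (⟨u, huN⟩ : N) * ⟨u, huN⟩ = 1 from Subtype.ext (Invol.invol_mul_self hu2), map_one]
    · have hmem : u ∈ D₁ := (QuotientGroup.eq_one_iff (⟨u, huN⟩ : N)).1 e
      exact Invol.invol_ne_one hu2 (Invol.eq_one_of_odd_of_mul_self
        ((Φ.D_odd).of_dvd_nat (Subgroup.orderOf_dvd_natCard _ (h.D₁_le hmem))) (Invol.invol_mul_self hu2))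
  have hzu : Commute (π z) (π ⟨u, huN⟩) :=
    (show Commute z ⟨u, huN⟩ from Subtype.ext huz.eq).map π
  -- `π x` is a power of `π z`
  refine hzf _ huπ ?_
  have hgen : zpowers (π z) = zpowers (π x) := by
    refine eq_of_le_of_card_ge (zpowers_le.2 (by rw [hz, map_pow]; exact pow_mem (mem_zpowers _) _)) ?_
    rw [Nat.card_zpowers, Nat.card_zpowers]
    have hz3' : orderOf (π z) = 3 := orderOf_eq_prime (by rw [← map_pow, hz3, map_one]) hπz
    rw [hz3', hzo]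
  obtain ⟨i, hi⟩ := mem_zpowers_iff.1 (hgen.symm ▸ mem_zpowers (π x) : π x ∈ zpowers (π z))
  exact hi ▸ hzu.zpow_left i

/-- `C(D)` is a section. -/
theorem sect_D : Sect Φ Φ.D (centralizer (Φ.D : Set X)) where
  D₁_le := le_rfl
  S_le := Φ.S_le_cent hX le_rfl
  D₁_mem := fun d hd => mem_centralizer_iff.2 fun e he => (Φ.D_comm he hd).eq
  N_le := le_rfl
  K_le := inf_le_right
  cent := fun x _ hxt => by
    obtain ⟨a, ha, k, hk, d, hd, h⟩ := Φ.decomp x hxt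
    exact ⟨a, ha, k, hk, d, hd, h⟩
  fus := fun a ha ha1 => by
    obtain ⟨n, hn, hna⟩ := Φ.fus hX ha ha1
    exact ⟨n, Φ.normalizer_cent hX hn, hn, hna⟩
  invol := fun _ _ h => h

/-- A prime divisor of `|D|` does not divide the order of `C(D)/D`. -/
theorem not_dvd_quot {r : ℕ} [hr' : Fact r.Prime] (hrd : r ∣ Nat.card Φ.D)
    [(Φ.D.subgroupOf (centralizer (Φ.D : Set X))).Normal] :
    ¬ r ∣ Nat.card (centralizer (Φ.D : Set X) ⧸ Φ.D.subgroupOf (centralizer (Φ.D : Set X))) := by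
  classical
  intro hY
  have hr : r.Prime := hr'.out
  have hr2 : r ≠ 2 := fun e => Nat.not_even_iff_odd.2 Φ.D_odd (even_iff_two_dvd.2 (e ▸ hrd))
  have hrK := Φ.not_dvd_K hX hrd
  set CD := centralizer (Φ.D : Set X) with hCD
  have h₀ := Φ.sect_D hX
  set π := QuotientGroup.mk' (Φ.D.subgroupOf CD)
  obtain ⟨Q, -, -, hQK⟩ := h₀.exists_quot
  rcases Q.cases with hf | hsmall
  · exact Φ.false_of_free hX h₀ hf
  have hnd : ¬ r ∣ Nat.card (centralizer ({Q.t} : Set _)) := by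
    rw [Q.card_cent]
    exact fun h => (hr.dvd_mul.1 h).elim
      (fun h2 => hr2 ((Nat.prime_dvd_prime_iff_eq hr Nat.prime_two).1 h2))
      (fun h2 => hrK (h2.trans hQK))
  obtain ⟨R, hR, n₀, hn₀, x₀, hx₀, hne₀⟩ := Q.exists_automizer hsmall hY hnd
  obtain ⟨n, rfl⟩ := QuotientGroup.mk'_surjective _ n₀
  obtain ⟨x, rfl⟩ := QuotientGroup.mk'_surjective _ x₀
  have hcyc : IsCyclic R := isCyclic_of_prime_card hR
  have hgen : ∀ w : CD, π w ∈ R → ∃ i : ℤ, ∃ d : CD, (d : X) ∈ Φ.D ∧ w = x ^ i * d := by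
    intro w hw
    have hxR : zpowers (π x) = R := by
      refine eq_of_le_of_card_ge (zpowers_le.2 hx₀) ?_
      rw [hR, Nat.card_zpowers]
      have hd := Subgroup.orderOf_dvd_natCard R hx₀
      rw [hR] at hd
      rcases (Nat.dvd_prime hr).1 hd with h | h
      · exact absurd (by rw [orderOf_eq_one_iff.1 h]; group) hne₀
      · exact h.ge
    obtain ⟨i, hi⟩ := mem_zpowers_iff.1 (hxR.symm ▸ hw : π w ∈ zpowers (π x))
    refine ⟨i, (x ^ i)⁻¹ * w, (QuotientGroup.eq_one_iff (N := Φ.D.subgroupOf CD) ((x ^ i)⁻¹ * w)).1 ?_, by group⟩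
    show π ((x ^ i)⁻¹ * w) = 1
    rw [map_mul, map_inv, map_zpow, hi, inv_mul_cancel]
  have hcom : ∀ w : CD, π w ∈ R → Commute w x := by
    intro w hw
    obtain ⟨i, d, hd, rfl⟩ := hgen w hw
    exact ((Commute.refl x).zpow_left i).mul_left (Subtype.ext (h₀.commute x.2 hd).eq.symm)
  set y : CD := n * x * n⁻¹ * x⁻¹ with hy
  have hnx : π (n * x * n⁻¹) ∈ R := by rw [map_mul, map_mul, map_inv]; exact hn₀ _ hx₀
  have hyR : π y ∈ R := by
    rw [hy, map_mul, map_inv]; exact mul_mem hnx (inv_mem hx₀)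
  have hy1 : π y ≠ 1 := by
    rw [hy, map_mul, map_inv, Ne, mul_inv_eq_one]
    intro e; exact hne₀ (by rw [← map_inv, ← map_mul, ← map_mul]; exact e)
  -- `θ w = n w n⁻¹ w⁻¹` is multiplicative on `π⁻¹ R`
  set P₁ := R.comap π with hP₁
  have hP₁c : ∀ a ∈ P₁, ∀ b ∈ P₁, Commute a b := by
    intro a ha b hb
    obtain ⟨i, d, hd, rfl⟩ := hgen a ha
    refine ((hcom b hb).symm.zpow_left i).mul_left ?_
    exact Subtype.ext (h₀.commute b.2 hd).eq.symm
  have hnP : ∀ a ∈ P₁, n * a * n⁻¹ ∈ P₁ := fun a ha => by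
    show π (n * a * n⁻¹) ∈ R
    rw [map_mul, map_mul, map_inv]; exact hn₀ _ ha
  let θ : P₁ →* CD := MonoidHom.mk' (fun a => n * a * n⁻¹ * (a : CD)⁻¹) fun a b => by
    show n * ((a : CD) * b) * n⁻¹ * ((a : CD) * b)⁻¹ = n * a * n⁻¹ * (a : CD)⁻¹ * (n * b * n⁻¹ * (b : CD)⁻¹)
    rw [show n * ((a : CD) * b) * n⁻¹ * ((a : CD) * b)⁻¹ =
      n * a * n⁻¹ * ((n * b * n⁻¹ * (b : CD)⁻¹) * (a : CD)⁻¹) by group,
      (hP₁c _ (mul_mem (hnP b b.2) (inv_mem b.2)) _ (inv_mem a.2)).eq]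
    group
  have hθD : ∀ a : P₁, ((a : CD) : X) ∈ Φ.D → θ a = 1 := fun a ha => by
    show n * a * n⁻¹ * (a : CD)⁻¹ = 1
    rw [(show Commute n (a : CD) from Subtype.ext (h₀.commute n.2 ha).eq).eq]
    group
  have hxP : x ∈ P₁ := hx₀
  have hyr : y ^ r = 1 := by
    have hxr : π (x ^ r) = 1 := by
      rw [map_pow]
      have hd := Subgroup.orderOf_dvd_natCard R hx₀
      rw [hR] at hd
      exact orderOf_dvd_iff_pow_eq_one.1 hd
    have := hθD (⟨x, hxP⟩ ^ r) (by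
      rw [Subgroup.coe_pow]
      exact (QuotientGroup.eq_one_iff (x ^ r)).1 hxr)
    rwa [map_pow] at this
  have hny : n * y * n⁻¹ ∈ zpowers y := by
    obtain ⟨i, d, hd, hi⟩ := hgen (n * x * n⁻¹) hnx
    have hdP : d ∈ P₁ := by
      show π d ∈ R
      rw [show π d = 1 from (QuotientGroup.eq_one_iff d).2 hd]; exact one_mem R
    have h1 : θ ⟨n * x * n⁻¹, hnP x hxP⟩ = y ^ i := by
      rw [show (⟨n * x * n⁻¹, hnP x hxP⟩ : P₁) = ⟨x, hxP⟩ ^ i * ⟨d, hdP⟩ from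
        Subtype.ext (by rw [Subgroup.coe_mul, Subgroup.coe_zpow]; exact hi),
        map_mul, map_zpow, hθD ⟨d, hdP⟩ hd, mul_one]
      rfl
    refine mem_zpowers_iff.2 ⟨i, ?_⟩
    rw [← h1, hy]
    show n * (n * x * n⁻¹) * n⁻¹ * (n * x * n⁻¹)⁻¹ = _
    group
  have hyo : orderOf y = r := orderOf_eq_prime hyr fun e => hy1 (by rw [e, map_one])
  obtain ⟨i, hi⟩ := mem_zpowers_iff.1 hny
  have hfix := Φ.commute_of_normalizes hX (r := r) hrd (y := (y : X)) (n := (n : X))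
    (by rw [Subgroup.orderOf_coe]; exact hyo)
    (mem_zpowers_iff.2 ⟨i, by rw [← Subgroup.coe_zpow, hi]; rfl⟩)
  have hfix' : n * y * n⁻¹ = y := Subtype.ext hfix
  -- so `n` fixes `π x`
  obtain ⟨j, d, hd, hj⟩ := hgen (n * x * n⁻¹) hnx
  have hπj : π (n * x * n⁻¹) = π x ^ j := by
    rw [hj, map_mul, map_zpow, show π d = 1 from (QuotientGroup.eq_one_iff d).2 hd, mul_one]
  have hπy : π y = π x ^ (j - 1) := by rw [hy, map_mul, map_inv, hπj, zpow_sub_one]
  have h2 : (π n * π x * (π n)⁻¹) ^ (j - 1) = π x ^ (j - 1) := by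
    rw [conj_zpow, ← hπy, ← map_inv, ← map_mul, ← map_mul, hfix']
  rw [← map_inv, ← map_mul, ← map_mul, hπj, ← zpow_mul, ← mul_inv_eq_one, ← zpow_neg, ← zpow_add] at h2
  have hox : orderOf (π x) = r := by
    have hd' := Subgroup.orderOf_dvd_natCard R hx₀
    rw [hR] at hd'
    exact ((Nat.dvd_prime hr).1 hd').resolve_left fun h => hne₀ (by rw [orderOf_eq_one_iff.1 h]; group)
  have hdiv := orderOf_dvd_iff_zpow_eq_one.2 h2
  rw [hox, show j * (j - 1) + -(j - 1) = (j - 1) * (j - 1) by ring] at hdiv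
  have := (Nat.prime_iff_prime_int.1 hr).dvd_mul.1 hdiv
  refine hy1 ?_
  rw [hπy, ← orderOf_dvd_iff_zpow_eq_one, hox]
  exact this.elim id id

/-- The centralizer of a complement to the `r`-part of `D` has a section with a large field. -/
theorem false_of_prime {r : ℕ} [hr' : Fact r.Prime] (hrd : r ∣ Nat.card Φ.D)
    [(Φ.D.subgroupOf (centralizer (Φ.D : Set X))).Normal]
    (hY : ¬ r ∣ Nat.card (centralizer (Φ.D : Set X) ⧸ Φ.D.subgroupOf (centralizer (Φ.D : Set X)))) : False := by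
  classical
  have hr : r.Prime := hr'.out
  have hr2 : r ≠ 2 := fun e => Nat.not_even_iff_odd.2 Φ.D_odd (even_iff_two_dvd.2 (e ▸ hrd))
  have hr3 : r ≠ 3 := fun e => Φ.three_not_dvd hX (e ▸ hrd)
  have hrK := Φ.not_dvd_K hX hrd
  set CD := centralizer (Φ.D : Set X) with hCD
  set π := QuotientGroup.mk' (Φ.D.subgroupOf CD)
  haveI := Φ.D_cyc
  obtain ⟨δ, hδ⟩ := IsCyclic.exists_ofOrder_eq_natCard (α := Φ.D)
  rw [← Subgroup.orderOf_coe] at hδ
  have hDgen : Φ.D = zpowers (δ : X) := (eq_of_le_of_card_ge (zpowers_le.2 δ.2)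
    (by rw [Nat.card_zpowers, hδ])).symm
  obtain ⟨a, m, hm, hcard⟩ := Nat.exists_eq_pow_mul_and_not_dvd (Nat.card_pos (α := Φ.D)).ne' r hr.ne_one
  have ha : a ≠ 0 := fun e => hm (by rw [e, pow_zero, one_mul] at hcard; exact hcard ▸ hrd)
  set D₁ := zpowers ((δ : X) ^ r ^ a) with hD₁def
  set Dr := zpowers ((δ : X) ^ m) with hDrdef
  have hm0 : m ≠ 0 := fun e => hm (e ▸ dvd_zero r)
  have hD₁ : D₁ ≤ Φ.D := zpowers_le.2 (pow_mem δ.2 _)
  have hDr : Dr ≤ Φ.D := zpowers_le.2 (pow_mem δ.2 _)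
  have hD₁c : Nat.card D₁ = m := by
    rw [hD₁def, Nat.card_zpowers, orderOf_pow_of_dvd (pow_ne_zero _ hr.ne_zero)
      (by rw [hδ, hcard]; exact dvd_mul_right _ _), hδ, hcard, Nat.mul_div_cancel_left _ (pow_pos hr.pos _)]
  have hDrc : Nat.card Dr = r ^ a := by
    rw [hDrdef, Nat.card_zpowers, orderOf_pow_of_dvd hm0 (by rw [hδ, hcard]; exact dvd_mul_left _ _),
      hδ, hcard, Nat.mul_div_cancel _ (Nat.pos_of_ne_zero hm0)]
  have hdec : ∀ d ∈ Φ.D, ∃ d₁ ∈ D₁, ∃ d₂ ∈ Dr, d = d₁ * d₂ := by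
    intro d hd
    rw [hDgen] at hd
    obtain ⟨i, rfl⟩ := mem_zpowers_iff.1 hd
    have hco : IsCoprime ((r : ℤ) ^ a) (m : ℤ) := by
      have := ((hr.coprime_iff_not_dvd.2 hm).pow_left a).cast (R := ℤ)
      push_cast at this; exact this
    obtain ⟨u, v, huv⟩ := hco
    refine ⟨((δ : X) ^ r ^ a) ^ (i * u), zpow_mem (mem_zpowers _) _, ((δ : X) ^ m) ^ (i * v),
      zpow_mem (mem_zpowers _) _, ?_⟩
    rw [← zpow_natCast, ← zpow_natCast, ← zpow_mul, ← zpow_mul, ← zpow_add]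
    congr 1
    push_cast
    linear_combination (-i) * huv
  set C₁ := centralizer (D₁ : Set X) with hC₁
  have hDrC : Dr ≤ C₁ := fun d hd => mem_centralizer_iff.2 fun e he => (Φ.D_comm (hD₁ he) (hDr hd)).eq
  have hDrp : IsPGroup r (Dr.subgroupOf C₁) :=
    (IsPGroup.of_card hDrc).of_equiv (subgroupOfEquivOfLe hDrC).symm
  have hnorm : normalizer ((Dr.subgroupOf C₁ : Subgroup C₁) : Set C₁) ≤
      centralizer ((Dr.subgroupOf C₁ : Subgroup C₁) : Set C₁) := by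
    intro g hg
    have hgN : (g : X) ∈ normalizer (Dr : Set X) := by
      refine mem_normalizer_iff.2 fun y => ⟨fun hy => (mem_normalizer_iff.1 hg ⟨y, hDrC hy⟩).1 hy, fun hy => ?_⟩
      have hy0 : y ∈ C₁ := by
        have := mul_mem (mul_mem (inv_mem g.2) (hDrC hy)) g.2
        rwa [show (g : X)⁻¹ * ((g : X) * y * (g : X)⁻¹) * g = y by group] at this
      exact (mem_normalizer_iff.1 hg ⟨y, hy0⟩).2 hy
    exact mem_centralizer_iff.2 fun w hw =>
      Subtype.ext (mem_centralizer_iff.1 (Φ.normalizer_eq hX hDr hgN) w hw)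
  have hndvd : ¬ r ∣ (Dr.subgroupOf C₁).index := by
    refine Invol.not_dvd_index_of_normalizer hDrp fun g hg ⟨k, hk⟩ => ?_
    have hgD : (g : X) ∈ CD := by
      refine mem_centralizer_iff.2 fun d hd => ?_
      obtain ⟨d₁, hd₁, d₂, hd₂, rfl⟩ := hdec d hd
      have h1 : Commute d₁ (g : X) := mem_centralizer_iff.1 g.2 d₁ hd₁
      have h2 : Commute d₂ (g : X) :=
        congrArg Subtype.val (mem_centralizer_iff.1 (hnorm hg) ⟨d₂, hDrC hd₂⟩ hd₂)
      exact (h1.mul_left h2).eq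
    have hgk : (g : X) ^ r ^ k = 1 := by rw [← Subgroup.coe_pow, hk, Subgroup.coe_one]
    have hgπ : π ⟨g, hgD⟩ = 1 := by
      refine orderOf_eq_one_iff.1 (Nat.eq_one_of_dvd_coprimes ?_
        (orderOf_dvd_of_pow_eq_one (n := r ^ k) (by
          rw [← map_pow, show (⟨g, hgD⟩ : CD) ^ r ^ k = 1 from Subtype.ext hgk, map_one]))
        (orderOf_dvd_natCard _))
      exact (hr.coprime_iff_not_dvd.2 hY).pow_left k
    have hgD' : (g : X) ∈ Φ.D := (QuotientGroup.eq_one_iff (⟨g, hgD⟩ : CD)).1 hgπ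
    obtain ⟨d₁, hd₁, d₂, hd₂, hgd⟩ := hdec _ hgD'
    have h1 : d₁ = 1 := by
      have hc : Commute d₁ d₂ := Φ.D_comm (hD₁ hd₁) (hDr hd₂)
      have hd₂k : d₂ ^ r ^ a = 1 := by
        rw [← hDrc]; exact congrArg Subtype.val (pow_card_eq_one' (G := Dr) (x := ⟨d₂, hd₂⟩))
      have h2 : d₁ ^ r ^ (k + a) = 1 := by
        have h := congrArg (fun w => (w ^ r ^ k) ^ r ^ a) hgd
        simp only [hgk, one_pow] at h
        rw [← pow_mul, ← pow_add, hc.mul_pow,
          show d₂ ^ r ^ (k + a) = 1 by rw [pow_add, mul_comm, pow_mul, hd₂k, one_pow], mul_one] at h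
        exact h.symm
      refine orderOf_eq_one_iff.1 (Nat.eq_one_of_dvd_coprimes ?_ (orderOf_dvd_of_pow_eq_one h2)
        (hD₁c ▸ Subgroup.orderOf_dvd_natCard D₁ hd₁))
      exact (hr.coprime_iff_not_dvd.2 hm).pow_left _
    show (g : X) ∈ Dr
    rw [hgd, h1, one_mul]; exact hd₂
  set PS : Sylow r C₁ := hDrp.toSylow hndvd
  have hPS : (PS : Subgroup C₁) = Dr.subgroupOf C₁ := IsPGroup.toSylow_coe _ _
  have hle : normalizer ((PS : Subgroup C₁) : Set C₁) ≤ centralizer ((PS : Subgroup C₁) : Set C₁) := by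
    rw [hPS]; exact hnorm
  set J := (MonoidHom.transferSylow PS hle).ker with hJ
  have hcpl := MonoidHom.ker_transferSylow_isComplement' PS hle
  have hprime : ∀ g : C₁, ¬ r ∣ orderOf (g : X) → g ∈ J := by
    intro g hg
    obtain ⟨j, hj⟩ := PS.2 (MonoidHom.transferSylow PS hle g)
    refine MonoidHom.mem_ker.2 (orderOf_eq_one_iff.1 (Nat.eq_one_of_dvd_coprimes ?_
      (orderOf_dvd_of_pow_eq_one hj) ((orderOf_map_dvd _ g).trans (Subgroup.orderOf_coe g).symm.dvd)))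
    exact (hr.coprime_iff_not_dvd.2 hg).pow_left j
  set N₁ := J.map C₁.subtype with hN₁
  have hN₁C : N₁ ≤ C₁ := map_subtype_le _
  have hinN : ∀ (g : X) (hg : g ∈ C₁), ¬ r ∣ orderOf g → g ∈ N₁ := fun g hg h =>
    ⟨⟨g, hg⟩, hprime _ h, rfl⟩
  have h2r : ∀ s : X, s * s = 1 → ¬ r ∣ orderOf s := fun s hs h => by
    have := h.trans (orderOf_dvd_of_pow_eq_one (by rw [pow_two]; exact hs))
    exact hr2 ((Nat.prime_dvd_prime_iff_eq hr Nat.prime_two).1 this)
  have hS₁ : (Φ.S : Subgroup X) ≤ N₁ := fun s hs =>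
    hinN s (Φ.S_le_cent hX hD₁ hs) (h2r s (by rw [← pow_two]; exact Φ.hS.2 s hs))
  have hK₁ : Φ.K ⊓ C₁ ≤ N₁ := fun k hk => hinN k (mem_inf.1 hk).2 fun h =>
    hrK (h.trans (Subgroup.orderOf_dvd_natCard _ (mem_inf.1 hk).1))
  have hsect : Sect Φ D₁ N₁ := by
    refine ⟨hD₁, hS₁, fun d hd => ?_, hN₁C, hK₁, ?_, ?_, ?_⟩
    · refine hinN d (mem_centralizer_iff.2 fun e he => (Φ.D_comm (hD₁ he) (hD₁ hd)).eq) fun h => hm ?_
      exact hD₁c ▸ h.trans (Subgroup.orderOf_dvd_natCard _ hd)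
    · intro x hx hxt
      obtain ⟨b, hb, k, hk, d, hd, hxd⟩ := Φ.decomp x hxt
      obtain ⟨d₁, hd₁, d₂, hd₂, rfl⟩ := hdec d hd
      have hbN : b ∈ N₁ := by rcases hb with rfl | rfl; exacts [one_mem _, hS₁ Φ.htS]
      have hd₁N : d₁ ∈ N₁ := hinN d₁ (mem_centralizer_iff.2 fun e he => (Φ.D_comm (hD₁ he) (hD₁ hd₁)).eq)
        fun h => hm (hD₁c ▸ h.trans (Subgroup.orderOf_dvd_natCard _ hd₁))
      have hkeq : k = b⁻¹ * x * (d₁ * d₂)⁻¹ := by rw [hxd]; group
      have hkN : k ∈ N₁ := hK₁ (mem_inf.2 ⟨hk, hkeq ▸ mul_mem (mul_mem (inv_mem (hN₁C hbN)) (hN₁C hx))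
        (inv_mem (mul_mem (hN₁C hd₁N) (hDrC hd₂)))⟩)
      have hd₂N : d₂ ∈ N₁ := by
        have h := mul_mem (inv_mem hd₁N) (mul_mem (inv_mem (mul_mem hbN hkN)) hx)
        rwa [hxd, show d₁⁻¹ * ((b * k)⁻¹ * (b * k * (d₁ * d₂))) = d₂ by group] at h
      obtain ⟨g, hg, hgd⟩ := hd₂N
      have hgP : g ∈ (PS : Subgroup C₁) := hPS ▸ (show (g : X) ∈ Dr by rw [show (g : X) = d₂ from hgd]; exact hd₂)
      have hd₂1 : d₂ = 1 := by
        rw [← hgd, mem_bot.1 (hcpl.disjoint.le_bot (mem_inf.2 ⟨hg, hgP⟩))]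
        rfl
      exact ⟨b, hb, k, hk, d₁, hd₁, by rw [hxd, hd₂1, mul_one]⟩
    · intro s hs hs1
      obtain ⟨k, hk, hkn, s₀, hs₀, hne'⟩ := Φ.moves
      have hNC : ∀ n ∈ normalizer ((Φ.S : Subgroup X) : Set X), n ∈ C₁ := fun n hn =>
        Φ.cent_le hX hD₁ (Φ.normalizer_cent hX hn)
      obtain ⟨n, hn, hnt⟩ := transitive_of_normal (Φ.S : Subgroup X) Φ.h8
        (M := normalizer ((Φ.S : Subgroup X) : Set X) ⊓ N₁)
        (fun m hm' s hs => (mem_normalizer_iff.1 (mem_inf.1 hm').1 s).1 hs)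
        (fun p hp hp1 q hq hq1 => by
          obtain ⟨u, hu, hup⟩ := Φ.fus hX hp hp1
          obtain ⟨v, hv, hvq⟩ := Φ.fus hX hq hq1
          refine ⟨MulAut.conj (v * u⁻¹), ?_, fun w hw => mem_inf.2 ⟨?_, ?_⟩⟩
          · rw [MulAut.conj_apply, ← hup, ← hvq]; group
          · exact mul_mem (mul_mem (mul_mem hv (inv_mem hu)) (mem_inf.1 hw).1)
              (inv_mem (mul_mem hv (inv_mem hu)))
          · exact conj_mem_map_of_normal J (hNC _ (mul_mem hv (inv_mem hu))) (mem_inf.1 hw).2)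
        ⟨k, mem_inf.2 ⟨hkn, hK₁ (mem_inf.2 ⟨hk, hNC k hkn⟩)⟩, s₀, hs₀, hne'⟩
        Φ.t Φ.htS (Invol.invol_ne_one Φ.ht) s hs hs1
      exact ⟨n, (mem_inf.1 hn).2, (mem_inf.1 hn).1, hnt⟩
    · intro g hg hgC
      exact hinN g hgC (h2r g (Invol.invol_mul_self hg))
  haveI := hsect.normal
  obtain ⟨Q, -, hQF, -⟩ := hsect.exists_quot
  rcases Q.cases with hf | hsmall
  · exact Φ.false_of_free hX hsect hf
  have hq5 : Fintype.card Q.F ≤ 5 := by rcases hsmall with h | h <;> omega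
  -- `q` is too large
  obtain ⟨F₀, _, _, hF₀, -⟩ := Φ.cent_sub (le_refl Φ.D)
  have h3 : 2 ≤ Fintype.card F₀ := Fintype.one_lt_card
  rw [hD₁c] at hQF
  rw [← hQF, hcard, pow_mul] at hF₀
  have hQ : Fintype.card Q.F = Fintype.card F₀ ^ r ^ a := (Nat.pow_left_injective hm0 hF₀).symm
  have hra : 5 ≤ r ^ a := le_trans (by
    have := hr.two_le
    rcases (show r = 4 ∨ 5 ≤ r by omega) with h | h
    · exact absurd hr (h ▸ by decide)
    · exact h) (Nat.le_self_pow ha r)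
  have h32 : 2 ^ 5 ≤ Fintype.card F₀ ^ r ^ a :=
    le_trans (Nat.pow_le_pow_left h3 5) (Nat.pow_le_pow_right (by omega) hra)
  rw [← hQ] at h32
  norm_num at h32
  omega


/-- `D` is trivial. -/
theorem D_eq_bot : Φ.D = ⊥ := by
  by_contra hne
  obtain ⟨r, hr, hrd⟩ := Nat.exists_prime_and_dvd (fun h => hne (Subgroup.card_eq_one.1 h))
  haveI := Fact.mk hr
  haveI := (Φ.sect_D hX).normal
  exact Φ.false_of_prime hX hrd (Φ.not_dvd_quot hX hrd)

/-- `C(t) = ⟨t⟩ × PSL(2, 5)` in a simple group: the first Janko group. -/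
theorem isoJ1 [IsSimpleGroup X] : Cfsg.Spor.IsoJ1 X := by
  classical
  haveI : Fact (Nat.Prime 2) := ⟨Nat.prime_two⟩
  have hD := Φ.D_eq_bot hX
  have hsect : Sect Φ ⊥ ⊤ := by
    refine ⟨bot_le, le_top, bot_le, fun x _ => mem_centralizer_iff.2 fun d hd => ?_, le_top, ?_, ?_,
      fun _ _ _ => mem_top _⟩
    · rw [SetLike.mem_coe, mem_bot] at hd; rw [hd, one_mul, mul_one]
    · intro x _ hxt
      obtain ⟨a, ha, k, hk, d, hd, h⟩ := Φ.decomp x hxt
      exact ⟨a, ha, k, hk, d, hD ▸ hd, h⟩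
    · intro a ha ha1
      obtain ⟨n, hn, hna⟩ := Φ.fus hX ha ha1
      exact ⟨n, mem_top _, hn, hna⟩
  haveI := hsect.normal
  obtain ⟨Q, hQt, hQF, -⟩ := hsect.exists_quot
  rcases Q.cases with hf | hsmall
  · exact (Φ.false_of_free hX hsect hf).elim
  rw [Subgroup.card_bot, pow_one] at hQF
  have h5 : Fintype.card Q.F = 5 := by
    have := Φ.five_le
    rcases hsmall with ⟨h, -⟩ | ⟨h, -⟩ <;> omega
  let η : (⊤ : Subgroup X) ⧸ (⊥ : Subgroup X).subgroupOf ⊤ ≃* X :=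
    ((QuotientGroup.quotientMulEquivOfEq (bot_subgroupOf ⊤)).trans QuotientGroup.quotientBot).trans topEquiv
  have hηt : η Q.t = Φ.t := by rw [hQt]; rfl
  have hmap : (centralizer ({Q.t} : Set ((⊤ : Subgroup X) ⧸ (⊥ : Subgroup X).subgroupOf ⊤))).map
      η.toMonoidHom = centralizer ({Φ.t} : Set X) := by
    rw [← hηt]
    exact map_centralizer_equiv η Q.t
  let θ : centralizer ({Q.t} : Set ((⊤ : Subgroup X) ⧸ (⊥ : Subgroup X).subgroupOf ⊤)) ≃*
      centralizer ({Φ.t} : Set X) :=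
    (η.subgroupMap _).trans (MulEquiv.subgroupCongr hmap)
  haveI := (CfsgLib.Perm.Dickson.psl_simple_noncomm (F := Q.F)
    (by rw [Nat.card_eq_fintype_card]; omega)).1
  obtain ⟨a5⟩ := Invol.mulEquiv_alternating_five (card_psl_five (F := Q.F) h5)
  exact Cfsg.Agent.S1644.result Φ.S Φ.hS.1 Φ.h8 Φ.t Φ.ht
    ((θ.symm.trans Q.e).trans ((MulEquiv.refl _).prodCongr a5))

end Frame

end CfsgLib.BGroup.FieldKill
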