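import Cfsg.Agent.Lib.BGroup.FieldKill.Tools
import Cfsg.Agent.Lib.Invol.LargePrimeMix.Count
import Cfsg.Agent.Lib.Invol.EqualOrderConj.Psl
import Cfsg.Agent.Lib.Ree.InvertedThree
import Cfsg.Agent.Lib.JTh.Final
import Cfsg.Agent.Lib.Ree.Five.Main
import Cfsg.Agent.S3188

/-!
# Groups with an involution centralizer `2 × PSL(2, q)` and transitive fusion

Either an element of order three commutes with no involution, or `q = 3` and the order is `168`, or
`q = 5` and the group is simple of order `175560`.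
-/

set_option autoImplicit false
set_option linter.unusedSectionVars false
set_option linter.style.haveILetI false

namespace CfsgLib.BGroup.FieldKill

open Subgroup

universe u

variable {Y : Type u} [Group Y] [Finite Y]

theorem zmodTwo_sq : ∀ w : Multiplicative (ZMod 2), w * w = 1 := by decide

/-- An element of order three commuting with no involution. -/
def HasFreeThree (Y : Type u) [Group Y] : Prop :=
  ∃ z : Y, orderOf z = 3 ∧ ∀ u : Y, orderOf u = 2 → ¬ Commute z u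

/-- The standing hypotheses. -/
structure Quot (Y : Type u) [Group Y] [Finite Y] where
  T : Sylow 2 Y
  t : Y
  hT : Cfsg.IsElementaryAbelian 2 (T : Subgroup Y)
  h8 : Nat.card (T : Subgroup Y) = 8
  ht : orderOf t = 2
  htT : t ∈ (T : Subgroup Y)
  F : Type
  [field : Field F]
  [fintype : Fintype F]
  hmod : Fintype.card F % 8 = 3 ∨ Fintype.card F % 8 = 5
  e : centralizer ({t} : Set Y) ≃* Multiplicative (ZMod 2) × Matrix.ProjectiveSpecialLinearGroup (Fin 2) F
  fus : ∀ a ∈ (T : Subgroup Y), a ≠ 1 → ∃ n ∈ normalizer ((T : Subgroup Y) : Set Y), n * t * n⁻¹ = a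

attribute [instance] Quot.field Quot.fintype

namespace Quot

variable (Q : Quot Y)
include Q

theorem hodd : Odd (Fintype.card Q.F) := by
  rw [Nat.odd_iff]; rcases Q.hmod with h | h <;> omega

theorem comm {a b : Y} (ha : a ∈ (Q.T : Subgroup Y)) (hb : b ∈ (Q.T : Subgroup Y)) : a * b = b * a :=
  congrArg Subtype.val (Q.hT.1.is_comm.comm (⟨a, ha⟩ : (Q.T : Subgroup Y)) ⟨b, hb⟩)

theorem sq_one {a : Y} (ha : a ∈ (Q.T : Subgroup Y)) : a * a = 1 := by
  rw [← sq]; exact Q.hT.2 a ha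

theorem invol {a : Y} (ha : a ∈ (Q.T : Subgroup Y)) (h1 : a ≠ 1) : orderOf a = 2 :=
  Invol.invol_iff.2 ⟨Q.sq_one ha, h1⟩

theorem hab : ∀ P : Sylow 2 Y, ∀ a b : P, a * b = b * a := by
  haveI : Fact (Nat.Prime 2) := ⟨Nat.prime_two⟩
  intro P a b
  obtain ⟨g, hg⟩ := MulAction.exists_smul_eq Y Q.T P
  have hmem : ∀ x : P, ∃ s ∈ (Q.T : Subgroup Y), g * s * g⁻¹ = (x : Y) := by
    intro x
    have hx : (x : Y) ∈ ((g • Q.T : Sylow 2 Y) : Subgroup Y) := hg ▸ x.2
    rw [Sylow.coe_subgroup_smul] at hx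
    obtain ⟨s, hs, hsx⟩ := hx
    exact ⟨s, hs, hsx⟩
  obtain ⟨s, hs, hsa⟩ := hmem a
  obtain ⟨r, hr, hrb⟩ := hmem b
  refine Subtype.ext ?_
  show (a : Y) * b = b * a
  rw [← hsa, ← hrb, show g * s * g⁻¹ * (g * r * g⁻¹) = g * (s * r) * g⁻¹ by group,
    show g * r * g⁻¹ * (g * s * g⁻¹) = g * (r * s) * g⁻¹ by group, Q.comm hs hr]

theorem all_conj {u : Y} (hu : orderOf u = 2) : ∃ g : Y, g * Q.t * g⁻¹ = u := by
  haveI : Fact (Nat.Prime 2) := ⟨Nat.prime_two⟩
  obtain ⟨g, hg⟩ := Invol.exists_conj_le_sylow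
    (IsPGroup.of_card (n := 1) (by rw [Nat.card_zpowers, hu, pow_one]) : IsPGroup 2 (zpowers u)) Q.T
  obtain ⟨n, -, hn⟩ := Q.fus _ (hg u (mem_zpowers u)) (Invol.invol_ne_one (Invol.invol_conj hu g))
  exact ⟨g⁻¹ * n, by rw [show g⁻¹ * n * Q.t * (g⁻¹ * n)⁻¹ = g⁻¹ * (n * Q.t * n⁻¹) * g by group, hn]; group⟩

theorem mem_of_normal {N : Subgroup Y} [N.Normal] (h : Even (Nat.card N)) {u : Y}
    (hu : orderOf u = 2) : u ∈ N := by
  obtain ⟨v, hv, hv2⟩ := Invol.exists_invol_mem h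
  obtain ⟨g, hg⟩ := Q.all_conj hv2
  obtain ⟨k, hk⟩ := Q.all_conj hu
  rw [← hk, show k * Q.t * k⁻¹ = (k * g⁻¹) * (g * Q.t * g⁻¹) * (k * g⁻¹)⁻¹ by group, hg]
  exact Subgroup.Normal.conj_mem inferInstance v hv _

theorem core_cent {u : Y} (hu : orderOf u = 2) {V : Subgroup Y} (hV : V ≤ centralizer ({u} : Set Y))
    (hn : ∀ c ∈ centralizer ({u} : Set Y), ∀ v ∈ V, c * v * c⁻¹ ∈ V) (hodd : Odd (Nat.card V)) : V = ⊥ := by
  obtain ⟨g, rfl⟩ := Q.all_conj hu
  set C := centralizer ({Q.t} : Set Y) with hC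
  have hO : Cfsg.oddCore (Multiplicative (ZMod 2) × Matrix.ProjectiveSpecialLinearGroup (Fin 2) Q.F) = ⊥ :=
    oddCore_two_prod (oddCore_psl Q.hodd)
  have hback : ∀ v ∈ V, g⁻¹ * v * g ∈ C := fun v hv => by
    have h := mem_centralizer_singleton_iff.1 (hV hv)
    refine mem_centralizer_singleton_iff.2 ?_
    calc g⁻¹ * v * g * Q.t = g⁻¹ * (v * (g * Q.t * g⁻¹)) * g := by group
      _ = g⁻¹ * (g * Q.t * g⁻¹ * v) * g := by rw [h]
      _ = Q.t * (g⁻¹ * v * g) := by group
  let W : Subgroup C := (V.map (MulAut.conj g⁻¹).toMonoidHom).subgroupOf C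
  have hWle : V.map (MulAut.conj g⁻¹).toMonoidHom ≤ C := by
    rintro _ ⟨v, hv, rfl⟩
    show g⁻¹ * v * (g⁻¹)⁻¹ ∈ C
    rw [inv_inv]; exact hback v hv
  haveI : W.Normal := by
    refine ⟨fun w hw c => ?_⟩
    obtain ⟨v, hv, hvw⟩ := hw
    have hcu : g * c * g⁻¹ ∈ centralizer ({g * Q.t * g⁻¹} : Set Y) := mem_centralizer_singleton_iff.2
      ((show Commute (c : Y) Q.t from mem_centralizer_singleton_iff.1 c.2).map (MulAut.conj g).toMonoidHom).eq
    refine ⟨g * c * g⁻¹ * v * (g * c * g⁻¹)⁻¹, hn _ hcu v hv, ?_⟩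
    show g⁻¹ * (g * c * g⁻¹ * v * (g * c * g⁻¹)⁻¹) * (g⁻¹)⁻¹ = (c : Y) * w * (c : Y)⁻¹
    have hvw' : g⁻¹ * v * (g⁻¹)⁻¹ = (w : Y) := hvw
    rw [← hvw']; group
  have hWodd : Odd (Nat.card W) := by
    rw [Nat.card_congr (subgroupOfEquivOfLe hWle).toEquiv,
      card_map_of_injective (MulAut.conj g⁻¹).injective]
    exact hodd
  haveI : (W.map Q.e.toMonoidHom).Normal := Subgroup.Normal.map inferInstance _ Q.e.surjective
  have h := eq_bot_of_normal_odd hO (W.map Q.e.toMonoidHom)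
    (by rw [card_map_of_injective Q.e.injective]; exact hWodd)
  have hW := (map_eq_bot_iff_of_injective _ Q.e.injective).1 h
  rw [eq_bot_iff]
  intro v hv
  have : (⟨g⁻¹ * v * g, hback v hv⟩ : C) ∈ W := ⟨v, hv, by show g⁻¹ * v * (g⁻¹)⁻¹ = _; rw [inv_inv]; rfl⟩
  rw [hW, mem_bot] at this
  have h' : g⁻¹ * v * g = 1 := congrArg Subtype.val this
  rw [mem_bot, ← show g * (g⁻¹ * v * g) * g⁻¹ = v by group, h']
  group

/-- The odd core is trivial. -/
theorem oddCore_bot : Cfsg.oddCore Y = ⊥ := by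
  classical
  set V := Cfsg.oddCore Y
  have hodd : Odd (Nat.card V) := by
    rw [← Nat.not_even_iff_odd, even_iff_two_dvd]
    exact Coprime.pPrimeCore_not_dvd Nat.prime_two
  have hconj : ∀ a : Y, ∀ v ∈ V, a * v * a⁻¹ ∈ V := fun a v hv => Subgroup.Normal.conj_mem inferInstance v hv a
  have hfp : ∀ a : Y, orderOf a = 2 → ∀ v ∈ V, a * v * a⁻¹ = v → v = 1 := by
    intro a ha v hv hav
    have h := Q.core_cent ha (V := V ⊓ centralizer ({a} : Set Y)) inf_le_right
      (fun c hc w hw => mem_inf.2 ⟨hconj c w (mem_inf.1 hw).1,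
        mul_mem (mul_mem hc (mem_inf.1 hw).2) (inv_mem hc)⟩)
      (hodd.of_dvd_nat (card_dvd_of_le inf_le_left))
    exact mem_bot.1 (h ▸ mem_inf.2 ⟨hv, mem_centralizer_singleton_iff.2 (mul_inv_eq_iff_eq_mul.1 hav).symm⟩)
  obtain ⟨a, ha, ha1, hat⟩ : ∃ a ∈ (Q.T : Subgroup Y), a ≠ 1 ∧ a ≠ Q.t := by
    by_contra hc
    push Not at hc
    have h2 : Nat.card (Q.T : Subgroup Y) ≤ 2 :=
      (Nat.card_le_card_of_injective (fun x : (Q.T : Subgroup Y) => decide (x = 1)) (fun x y hxy => by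
        by_cases hx : x = 1 <;> by_cases hy : y = 1
        · rw [hx, hy]
        · simp [hx, hy] at hxy
        · simp [hx, hy] at hxy
        · exact Subtype.ext ((hc x x.2 fun e => hx (Subtype.ext e)).trans
            (hc y y.2 fun e => hy (Subtype.ext e)).symm))).trans (by simp)
    have := Q.h8
    omega
  have hat2 : orderOf (a * Q.t) = 2 := Q.invol (mul_mem ha Q.htT) fun e =>
    hat (by rw [mul_eq_one_iff_eq_inv, Invol.invol_inv Q.ht] at e; exact e)
  have inv1 := Invol.inverts_of_fixedPointFree (Q.invol ha ha1) (fun v hv => hconj a v hv)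
    (hfp a (Q.invol ha ha1))
  have inv2 := Invol.inverts_of_fixedPointFree Q.ht (fun v hv => hconj Q.t v hv) (hfp _ Q.ht)
  rw [eq_bot_iff]
  intro v hv
  refine mem_bot.2 (hfp _ hat2 v hv ?_)
  rw [show a * Q.t * v * (a * Q.t)⁻¹ = a * (Q.t * v * Q.t⁻¹) * a⁻¹ by group, inv2 v hv,
    show a * v⁻¹ * a⁻¹ = (a * v * a⁻¹)⁻¹ by group, inv1 v hv, inv_inv]

theorem even_of_normal {N : Subgroup Y} [N.Normal] (hN : N ≠ ⊥) : Even (Nat.card N) := by
  by_contra h
  exact hN (eq_bot_of_normal_odd Q.oddCore_bot N (Nat.not_even_iff_odd.1 h))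

/-- A moving element of the centralizer of `t`. -/
theorem exists_moving_cent : ∃ c ∈ centralizer ({Q.t} : Set Y),
    c ∈ normalizer ((Q.T : Subgroup Y) : Set Y) ∧ ∃ a ∈ (Q.T : Subgroup Y), c * a * c⁻¹ ≠ a := by
  haveI : Fact (Nat.Prime 2) := ⟨Nat.prime_two⟩
  set C := centralizer ({Q.t} : Set Y)
  have hTC : (Q.T : Subgroup Y) ≤ C := fun s hs => mem_centralizer_singleton_iff.2 (Q.comm hs Q.htT)
  have hO : Cfsg.oddCore C = ⊥ := by
    set V := Cfsg.oddCore C
    have hodd : Odd (Nat.card V) := by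
      rw [← Nat.not_even_iff_odd, even_iff_two_dvd]
      exact Coprime.pPrimeCore_not_dvd Nat.prime_two
    refine (map_eq_bot_iff_of_injective _ C.subtype_injective).1
      (Q.core_cent Q.ht (map_subtype_le V) ?_ (by rwa [card_map_of_injective C.subtype_injective]))
    rintro c hc _ ⟨v, hv, rfl⟩
    exact ⟨⟨c, hc⟩ * v * (⟨c, hc⟩ : C)⁻¹, Subgroup.Normal.conj_mem inferInstance v hv _, rfl⟩
  have h3 : 3 ∣ Nat.card C := by
    rw [Nat.card_congr Q.e.toEquiv, Nat.card_prod]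
    exact dvd_mul_of_dvd_right (three_dvd_card_psl Q.hodd) _
  obtain ⟨n, hn, s, hs, hne⟩ := exists_moving (Q.T.subtype hTC) hO h3
  refine ⟨n, n.2, mem_normalizer_iff.2 fun y => ?_, s, hs, fun e => hne (Subtype.ext e)⟩
  constructor
  · intro hy
    exact (mem_normalizer_iff.1 hn ⟨y, hTC hy⟩).1 hy
  · intro hy
    have hy0 : y ∈ C := by
      have := mul_mem (mul_mem (inv_mem n.2) (hTC hy)) n.2
      rwa [show (n : Y)⁻¹ * ((n : Y) * y * (n : Y)⁻¹) * n = y by group] at this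
    exact (mem_normalizer_iff.1 hn ⟨y, hy0⟩).2 hy

theorem card_cent : Nat.card (centralizer ({Q.t} : Set Y)) =
    2 * Nat.card (Matrix.ProjectiveSpecialLinearGroup (Fin 2) Q.F) := by
  rw [Nat.card_congr Q.e.toEquiv, Nat.card_prod,
    show Nat.card (Multiplicative (ZMod 2)) = 2 from Nat.card_zmod 2]

theorem isSimpleGroup (h5 : 5 ≤ Fintype.card Q.F) : IsSimpleGroup Y := by
  haveI : Fact (Nat.Prime 2) := ⟨Nat.prime_two⟩
  haveI := (CfsgLib.Perm.Dickson.psl_simple_noncomm (F := Q.F)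
    (by rw [Nat.card_eq_fintype_card]; omega)).1
  haveI : Nontrivial Y := ⟨⟨Q.t, 1, Invol.invol_ne_one Q.ht⟩⟩
  refine ⟨fun N hN => ?_⟩
  haveI := hN
  by_contra hc
  push Not at hc
  refine hc.2 ?_
  have hinv : ∀ u : Y, orderOf u = 2 → u ∈ N := fun u hu => Q.mem_of_normal (Q.even_of_normal hc.1) hu
  have hTN : (Q.T : Subgroup Y) ≤ N := fun s hs => by
    by_cases h1 : s = 1
    · rw [h1]; exact one_mem _
    · exact hinv s (Q.invol hs h1)
  set C := centralizer ({Q.t} : Set Y)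
  have hTC : (Q.T : Subgroup Y) ≤ C := fun s hs => mem_centralizer_singleton_iff.2 (Q.comm hs Q.htT)
  have hsq : ∀ z : Multiplicative (ZMod 2), (((Q.e.symm (z, 1) : C) : Y)) ∈ N := by
    intro z
    have h2 : (Q.e.symm (z, 1) : C) * Q.e.symm (z, 1) = 1 := by
      rw [← map_mul, Prod.mk_mul_mk, one_mul,
        zmodTwo_sq z]
      exact map_one _
    by_cases h1 : ((Q.e.symm (z, 1) : C) : Y) = 1
    · rw [h1]; exact one_mem _
    · exact hinv _ (Invol.invol_iff.2 ⟨congrArg Subtype.val h2, h1⟩)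
  -- `C(t) ≤ N`
  let f : C →* Matrix.ProjectiveSpecialLinearGroup (Fin 2) Q.F := (MonoidHom.snd _ _).comp Q.e.toMonoidHom
  have hf : Function.Surjective f := fun p => ⟨Q.e.symm (1, p), by simp [f]⟩
  have hfk : ∀ c : C, f c = 1 → (c : Y) ∈ N := by
    intro c hc'
    have : c = Q.e.symm ((Q.e c).1, 1) := Q.e.injective (by
      rw [Q.e.apply_symm_apply]
      exact Prod.ext rfl hc')
    rw [this]
    exact hsq _
  haveI : ((N.subgroupOf C).map f).Normal := Subgroup.Normal.map inferInstance f hf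
  have hCN : C ≤ N := by
    rcases (inferInstance : ((N.subgroupOf C).map f).Normal).eq_bot_or_eq_top with h | h
    · exfalso
      -- `T` would lie in the kernel, of order two
      let g : ↥(Q.T : Subgroup Y) → Multiplicative (ZMod 2) := fun s => (Q.e ⟨s, hTC s.2⟩).1
      have hg : Function.Injective g := by
        intro a b hab'
        have hker : ∀ s : (Q.T : Subgroup Y), (Q.e ⟨s, hTC s.2⟩).2 = 1 := fun s => by
          have : f ⟨s, hTC s.2⟩ ∈ (N.subgroupOf C).map f := mem_map_of_mem _ (hTN s.2)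
          rwa [h, mem_bot] at this
        exact Subtype.ext (congrArg Subtype.val
          (Q.e.injective (Prod.ext hab' ((hker a).trans (hker b).symm))) :)
      have := Nat.card_le_card_of_injective g hg
      rw [Q.h8, show Nat.card (Multiplicative (ZMod 2)) = 2 from Nat.card_zmod 2] at this
      omega
    · intro c hc'
      obtain ⟨m, hm, hmc⟩ := h.ge (mem_top (f ⟨c, hc'⟩))
      have hm' : (m : Y) ∈ N := hm
      have := mul_mem hm' (hfk (m⁻¹ * ⟨c, hc'⟩) (by rw [map_mul, map_inv, hmc, inv_mul_cancel]))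
      rwa [← Subgroup.coe_mul, mul_inv_cancel_left] at this
  -- transitivity inside `N`
  obtain ⟨c₀, hc₀, hc₀N, a₀, ha₀, hne⟩ := Q.exists_moving_cent
  have htr := transitive_of_normal (Q.T : Subgroup Y) Q.h8
    (M := normalizer ((Q.T : Subgroup Y) : Set Y) ⊓ N)
    (fun m hm s hs => (mem_normalizer_iff.1 (mem_inf.1 hm).1 s).1 hs)
    (fun a ha ha1 b hb hb1 => by
      obtain ⟨n, hn, hna⟩ := Q.fus a ha ha1
      obtain ⟨n', hn', hnb⟩ := Q.fus b hb hb1
      refine ⟨MulAut.conj (n' * n⁻¹), ?_, fun m hm => mem_inf.2 ⟨?_, ?_⟩⟩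
      · rw [MulAut.conj_apply, ← hna, ← hnb]; group
      · exact mul_mem (mul_mem (mul_mem hn' (inv_mem hn)) (mem_inf.1 hm).1)
          (inv_mem (mul_mem hn' (inv_mem hn)))
      · exact hN.conj_mem m (mem_inf.1 hm).2 _)
    ⟨c₀, mem_inf.2 ⟨hc₀N, hCN hc₀⟩, a₀, ha₀, hne⟩
  rw [eq_top_iff]
  intro y _
  obtain ⟨h, hh, hy⟩ := exists_mul_mem_normalizer Q.T hTN (n := y)
    (fun s hs => hN.conj_mem s (hTN hs) y)
  obtain ⟨m, hm, hmt⟩ := htr Q.t Q.htT (Invol.invol_ne_one Q.ht) (h * y * Q.t * (h * y)⁻¹)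
    ((mem_normalizer_iff.1 hy Q.t).1 Q.htT) (fun e => Invol.invol_ne_one Q.ht (conj_eq_one_iff.1 e))
  have hc' : m⁻¹ * (h * y) ∈ C := mem_centralizer_singleton_iff.2 (by
    calc m⁻¹ * (h * y) * Q.t = m⁻¹ * (h * y * Q.t * (h * y)⁻¹) * (h * y) := by group
      _ = m⁻¹ * (m * Q.t * m⁻¹) * (h * y) := by rw [hmt]
      _ = Q.t * (m⁻¹ * (h * y)) := by group)
  have := mul_mem (mul_mem (inv_mem hh) (mem_inf.1 hm).2) (hCN hc')
  rwa [show h⁻¹ * m * (m⁻¹ * (h * y)) = y by group] at this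

/-- The case `q = 3`. -/
theorem case_three (h3 : Fintype.card Q.F = 3) : HasFreeThree Y ∨ Nat.card Y = 168 := by
  classical
  haveI : Fact (Nat.Prime 2) := ⟨Nat.prime_two⟩
  haveI : Fact (Nat.Prime 3) := ⟨Nat.prime_three⟩
  have hC24 : Nat.card (centralizer ({Q.t} : Set Y)) = 24 := by
    rw [Q.card_cent, card_psl_three h3]
  have hsolv : ∀ u : Y, orderOf u = 2 → Group.IsSolvable (centralizer ({u} : Set Y)) := by
    intro u hu
    obtain ⟨g, rfl⟩ := Q.all_conj hu
    refine Invol.AltEightSubgroups.solvable_of_card_lt_sixty _ rfl ?_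
    rw [← MulAut.conj_apply, ← map_centralizer (MulAut.conj g) Q.t,
      card_map_of_injective (MulAut.conj g).injective, hC24]
    norm_num
  haveI : IsMulCommutative (Q.T : Subgroup Y) := Q.hT.1
  rcases Cfsg.Agent.S3188.result Q.T Q.hT.1 hsolv with hs | ⟨L, iL, iL', hL, N, hN, ⟨eN⟩, -⟩
  · right
    -- an abelian normal subgroup
    obtain ⟨A, hAn, hAne, hAc⟩ : ∃ A : Subgroup Y, A.Normal ∧ A ≠ ⊥ ∧ ⁅A, A⁆ = ⊥ := by
      obtain ⟨k, hk⟩ := hs.solvable
      have hex : ∃ k, derivedSeries Y k = ⊥ := ⟨k, hk⟩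
      have h0 : Nat.find hex ≠ 0 := fun h => by
        have := Nat.find_spec hex
        rw [h, derivedSeries_zero] at this
        exact Invol.invol_ne_one Q.ht (mem_bot.1 (this ▸ mem_top Q.t))
      obtain ⟨m, hm⟩ := Nat.exists_eq_succ_of_ne_zero h0
      refine ⟨derivedSeries Y m, derivedSeries_normal Y m, Nat.find_min hex (by omega), ?_⟩
      rw [← derivedSeries_succ]
      have := Nat.find_spec hex
      rwa [hm] at this
    haveI := hAn
    have hcomm : ∀ a ∈ A, ∀ b ∈ A, a * b = b * a := by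
      intro a ha b hb
      have h1 := commutator_mem_commutator ha hb
      rw [hAc, mem_bot] at h1
      exact mul_inv_eq_iff_eq_mul.1 (mul_inv_eq_one.1 h1)
    have hinvA : ∀ u : Y, orderOf u = 2 → u ∈ A := fun u hu => Q.mem_of_normal (Q.even_of_normal hAne) hu
    have hTA : ∀ s ∈ (Q.T : Subgroup Y), s ∈ A := fun s hs => by
      by_cases h1 : s = 1
      · rw [h1]; exact one_mem _
      · exact hinvA s (Q.invol hs h1)
    have hin : ∀ u : Y, orderOf u = 2 → u ∈ (Q.T : Subgroup Y) := by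
      intro u hu
      refine PGroup.CSylow.le_sylow_of_le_normalizer Q.T (Q := zpowers u)
        (IsPGroup.of_card (n := 1) (by rw [Nat.card_zpowers, hu, pow_one])) (zpowers_le.2 ?_) (mem_zpowers u)
      refine centralizer_le_normalizer _ (mem_centralizer_iff.2 fun s hs' => ?_)
      exact hcomm s (hTA s hs') u (hinvA u hu)
    have hS := CfsgLib.LargePrimeMix.card_conjugates (G := Y) (t := Q.t) rfl {u | orderOf u = 2}
      (fun u => ⟨fun hu => Q.all_conj hu, fun ⟨g, hg⟩ => hg ▸ Invol.invol_conj Q.ht g⟩)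
    have h7 : Nat.card ({u : Y | orderOf u = 2} : Set Y) = 7 := by
      haveI := Fintype.ofFinite Y
      have hset : Finset.univ.filter (fun u : Y => orderOf u = 2) =
          (Finset.univ.filter (fun u : Y => u ∈ (Q.T : Subgroup Y))).erase 1 := by
        ext u
        simp only [Finset.mem_filter, Finset.mem_univ, true_and, Finset.mem_erase]
        exact ⟨fun hu => ⟨Invol.invol_ne_one hu, hin u hu⟩, fun hu => Q.invol hu.2 hu.1⟩
      have h8' : (Finset.univ.filter (fun u : Y => u ∈ (Q.T : Subgroup Y))).card = 8 := by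
        rw [← Q.h8, Nat.card_eq_fintype_card, Fintype.card_subtype]
      rw [Nat.card_eq_fintype_card, Fintype.card_subtype]
      simp only [Set.mem_setOf_eq]
      rw [hset, Finset.card_erase_of_mem (by simp [one_mem]), h8']
    rw [h7, hC24] at hS
    omega
  · left
    let π : Y ≃* Y ⧸ Cfsg.oddCore Y :=
      ((QuotientGroup.quotientMulEquivOfEq Q.oddCore_bot).trans QuotientGroup.quotientBot).symm
    haveI := hN
    set N' := N.map π.symm.toMonoidHom with hN'
    haveI : N'.Normal := Subgroup.Normal.map hN _ π.symm.surjective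
    let e' : N' ≃* Matrix.ProjectiveSpecialLinearGroup (Fin 2) L := (π.symm.subgroupMap N).symm.trans eN
    have hcard : Nat.card N' = Nat.card (Matrix.ProjectiveSpecialLinearGroup (Fin 2) L) :=
      Nat.card_congr e'.toEquiv
    have hL4 : 4 ≤ Fintype.card L := by
      rcases hL with ⟨-, h⟩ | ⟨k, hk, h⟩
      · omega
      · rw [h]; exact le_trans (by norm_num) (Nat.pow_le_pow_right (by norm_num) hk)
    have hpsl := Classical.card_psl2 (F := L)
    have hgle : Nat.gcd 2 (Fintype.card L - 1) ≤ 2 := Nat.le_of_dvd two_pos (Nat.gcd_dvd_left _ _)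
    have hne : N' ≠ ⊥ := fun h => by
      rw [h, card_bot] at hcard
      rw [← hcard, mul_one] at hpsl
      have h1 : 4 * (3 * 5) ≤ Fintype.card L * ((Fintype.card L - 1) * (Fintype.card L + 1)) :=
        Nat.mul_le_mul hL4 (Nat.mul_le_mul (by omega) (by omega))
      omega
    have hinvN : ∀ u : Y, orderOf u = 2 → u ∈ N' := fun u hu => Q.mem_of_normal (Q.even_of_normal hne) hu
    have hTN : (Q.T : Subgroup Y) ≤ N' := fun s hs => by
      by_cases h1 : s = 1
      · rw [h1]; exact one_mem _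
      · exact hinvN s (Q.invol hs h1)
    rcases hL with ⟨hm, -⟩ | ⟨k, hk, hk'⟩
    · exfalso
      set E := ((Q.T : Subgroup Y).subgroupOf N').map e'.toMonoidHom with hE
      have hEc : Nat.card E = 2 ^ 3 := by
        rw [hE, card_map_of_injective e'.injective, Nat.card_congr (subgroupOfEquivOfLe hTN).toEquiv, Q.h8]
        norm_num
      have := EqConj.card_le_four_of_elementary (F := L) (Nat.odd_iff.2 (by omega)) E hEc (by
        rintro _ ⟨x, hx, rfl⟩
        rw [← map_mul, show x * x = 1 from Subtype.ext (Q.sq_one hx), map_one])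
      omega
    · haveI := EqConj.charP_two_of_card (F := L) (r := k) (by omega) hk'
      have hev : 2 ∣ Fintype.card L := hk' ▸ dvd_pow_self 2 (by omega)
      have hg1 : Nat.gcd 2 (Fintype.card L - 1) = 1 :=
        Nat.coprime_iff_gcd_eq_one.1 (Nat.prime_two.coprime_iff_not_dvd.2 (by omega))
      rw [hg1, one_mul, ← hcard] at hpsl
      have h3d : 3 ∣ Nat.card N' := by
        rw [hpsl]
        rcases (show Fintype.card L % 3 = 0 ∨ Fintype.card L % 3 = 1 ∨ Fintype.card L % 3 = 2 by omega)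
          with h | h | h
        · exact dvd_mul_of_dvd_left (Nat.dvd_of_mod_eq_zero h) _
        · exact dvd_mul_of_dvd_right (dvd_mul_of_dvd_left (by omega) _) _
        · exact dvd_mul_of_dvd_right (dvd_mul_of_dvd_right (by omega) _) _
      obtain ⟨z, hz⟩ := exists_prime_orderOf_dvd_card' (G := N') 3 h3d
      refine ⟨z, by rw [Subgroup.orderOf_coe, hz], fun u hu hc => ?_⟩
      have h6 : orderOf (e' (⟨u, hinvN u hu⟩ * z)) = 6 := by
        rw [MulEquiv.orderOf_eq, ← Subgroup.orderOf_coe]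
        show orderOf (u * (z : Y)) = 6
        rw [(hc.symm).orderOf_mul_eq_mul_orderOf_of_coprime (by rw [hu, Subgroup.orderOf_coe, hz]; decide),
          hu, Subgroup.orderOf_coe, hz]
      have h1 := (CfsgLib.Classical.PSL2Spectrum.mem_range_orderOf (F := L) 2 hL4 6).1 ⟨_, h6⟩
      rw [hg1, Nat.div_one, Nat.div_one] at h1
      rcases h1 with h | h | h
      · norm_num at h
      · have := (show 2 ∣ 6 by norm_num).trans h; omega
      · have := (show 2 ∣ 6 by norm_num).trans h; omega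

/-- Embedding data for `C(t) = ⟨t⟩ × K`. -/
theorem exists_datum (hq : 3 ≤ Fintype.card Q.F) : ∃ K : Subgroup Y, (∀ c ∈ K, Commute c Q.t) ∧
    (∀ c : Y, Commute c Q.t → c ∈ K ∨ Q.t * c ∈ K) ∧ Q.t ∉ K ∧
    Nonempty (K ≃* Matrix.ProjectiveSpecialLinearGroup (Fin 2) Q.F) := by
  set C := centralizer ({Q.t} : Set Y) with hC
  have htC : Q.t ∈ C := mem_centralizer_singleton_iff.2 rfl
  let i : Matrix.ProjectiveSpecialLinearGroup (Fin 2) Q.F →* Y :=
    C.subtype.comp (Q.e.symm.toMonoidHom.comp (MonoidHom.inr _ _))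
  have hi : Function.Injective i := C.subtype_injective.comp
    (Q.e.symm.injective.comp fun a b h => congrArg Prod.snd h)
  have hcen : (Q.e ⟨Q.t, htC⟩).2 = 1 := by
    have h : (Q.e ⟨Q.t, htC⟩).2 ∈ center (Matrix.ProjectiveSpecialLinearGroup (Fin 2) Q.F) := by
      refine mem_center_iff.2 fun y => ?_
      have h1 : Q.e.symm (1, y) * ⟨Q.t, htC⟩ = ⟨Q.t, htC⟩ * Q.e.symm (1, y) :=
        Subtype.ext (mem_centralizer_singleton_iff.1 (Q.e.symm (1, y)).2)
      simpa using congrArg (fun z => (Q.e z).2) h1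
    rwa [Classical.ExcIso.center_psl_bot (le_refl 2) (fun _ => hq), mem_bot] at h
  have hne : (Q.e ⟨Q.t, htC⟩).1 ≠ 1 := fun h => Invol.invol_ne_one Q.ht (by
    have : Q.e ⟨Q.t, htC⟩ = 1 := Prod.ext h hcen
    exact congrArg Subtype.val ((EmbeddingLike.map_eq_one_iff (f := Q.e)).1 this))
  have hmemK : ∀ c : C, (Q.e c).1 = 1 → (c : Y) ∈ i.range := fun c hc =>
    ⟨(Q.e c).2, congrArg Subtype.val (Q.e.injective (by
      show Q.e (Q.e.symm (1, (Q.e c).2)) = Q.e c
      rw [Q.e.apply_symm_apply, ← hc]))⟩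
  refine ⟨i.range, ?_, ?_, ?_, ⟨(MonoidHom.ofInjective hi).symm⟩⟩
  · rintro _ ⟨y, rfl⟩
    exact mem_centralizer_singleton_iff.1 (Q.e.symm.toMonoidHom (MonoidHom.inr _ _ y)).2
  · intro c hc
    have hcC : c ∈ C := mem_centralizer_singleton_iff.2 hc.eq
    by_cases h : (Q.e ⟨c, hcC⟩).1 = 1
    · exact Or.inl (hmemK _ h)
    · exact Or.inr (hmemK (⟨Q.t, htC⟩ * ⟨c, hcC⟩) (by
        rw [map_mul, Prod.fst_mul]; exact JTh.zmodTwo_mul _ _ hne h))
  · rintro ⟨y, hy⟩
    refine hne ?_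
    have : (⟨Q.t, htC⟩ : C) = Q.e.symm (1, y) := Subtype.ext hy.symm
    rw [this, Q.e.apply_symm_apply]

/-- The case of a group of Ree type. -/
theorem free_three_of_ree [IsSimpleGroup Y] {m : ℕ} (hm : 1 ≤ m)
    (hF : Fintype.card Q.F = 3 ^ (2 * m + 1)) : HasFreeThree Y := by
  haveI : Fact (Nat.Prime 2) := ⟨Nat.prime_two⟩
  have hq : 3 ≤ Fintype.card Q.F := by
    rw [hF]; exact le_trans (by norm_num) (Nat.pow_le_pow_right (by norm_num) (show 1 ≤ 2 * m + 1 by omega))
  have hodd : Odd (centralizer ({Q.t} : Set Y)).index := by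
    rw [Nat.odd_iff, ← Nat.two_dvd_ne_zero]
    exact fun h => Q.T.not_dvd_index (h.trans (index_dvd_of_le fun s hs =>
      mem_centralizer_singleton_iff.2 (Q.comm hs Q.htT)))
  have hna : ¬ IsMulCommutative Y := by
    intro h
    obtain ⟨c, -, -, a, -, hne⟩ := Q.exists_moving_cent
    exact hne (by rw [h.is_comm.comm c a, mul_inv_cancel_right])
  obtain ⟨K, hKc, hKor, hKn, ⟨φ⟩⟩ := Q.exists_datum hq
  have h8 := Q.hmod
  have h2 : Fintype.card Q.F % 4 = 3 := by
    rw [hF, pow_succ, pow_mul, Nat.mul_mod, Nat.pow_mod]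
    norm_num
  obtain ⟨T⟩ := ReeType.exists_setup_of_kit hna Q.t K
    (ReeType.Kit.of_equiv (m := (3 ^ (2 * m + 1) + 1) / 4) (n := (3 ^ (2 * m + 1) - 1) / 2) hm hF rfl
      (by rw [hF] at h2; omega) (by rw [hF] at h2; omega) φ) Q.ht hKc hKor hKn hodd
  have hnh := T.not_hg
  simp only [FourFree.HG, not_forall] at hnh
  obtain ⟨a, x, hx3, hax, hx1⟩ := hnh
  exact ⟨x, orderOf_eq_prime hx3 hx1, fun u hu hc =>
    ReeType.Setup.not_inverted_three T (orderOf_eq_prime hx3 hx1) hu hc hax⟩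

/-- The trichotomy. -/
theorem cases : HasFreeThree Y ∨ (Fintype.card Q.F = 3 ∧ Nat.card Y = 168) ∨
    (Fintype.card Q.F = 5 ∧ Cfsg.IsJ1 Y) := by
  have hq := Q.hmod
  have h1 := Fintype.one_lt_card (α := Q.F)
  rcases (show Fintype.card Q.F = 3 ∨ 5 ≤ Fintype.card Q.F by omega) with h3 | h5
  · rcases Q.case_three h3 with h | h
    · exact Or.inl h
    · exact Or.inr (Or.inl ⟨h3, h⟩)
  haveI := Q.isSimpleGroup h5
  haveI := Fintype.ofFinite Y
  rcases JTh.main_univ (fun _ _ _ _ T5 => ReeType.Five.Setup.false_of_torus _ T5) Q.hab (by omega) Q.t Q.ht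
    ⟨Q.e⟩ with ⟨m, hm, hF, -⟩ | ⟨h45, hJ⟩
  · exact Or.inl (Q.free_three_of_ree hm hF)
  · exact Or.inr (Or.inr ⟨by omega, hJ⟩)

/-- In the exceptional cases a prime dividing the order but not the centralizer has a Sylow subgroup
of prime order with non-central normalizer. -/
theorem exists_automizer (h : (Fintype.card Q.F = 3 ∧ Nat.card Y = 168) ∨
      (Fintype.card Q.F = 5 ∧ Cfsg.IsJ1 Y))
    {r : ℕ} [hr : Fact r.Prime] (hd : r ∣ Nat.card Y)
    (hnd : ¬ r ∣ Nat.card (centralizer ({Q.t} : Set Y))) :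
    ∃ R : Subgroup Y, Nat.card R = r ∧ ∃ n : Y, (∀ x ∈ R, n * x * n⁻¹ ∈ R) ∧
      ∃ x ∈ R, n * x * n⁻¹ ≠ x := by
  haveI : Fact (Nat.Prime 2) := ⟨Nat.prime_two⟩
  have hCodd : (r ≠ 2) ∧ (r ≠ 3) := by
    constructor
    · rintro rfl; exact hnd (Q.card_cent ▸ dvd_mul_right 2 _)
    · rintro rfl; exact hnd (Q.card_cent ▸ (three_dvd_card_psl Q.hodd).mul_left 2)
  have hsq : ¬ r ^ 2 ∣ Nat.card Y := by
    intro h2
    have h5 := hr.out.two_le
    rcases h with ⟨-, hY⟩ | ⟨-, -, hY⟩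
    · rw [hY] at h2 hd
      have hr7 : r ∣ 7 := (Nat.Coprime.dvd_of_dvd_mul_left
        (show Nat.Coprime r 24 by
          rw [show (24 : ℕ) = 2 ^ 3 * 3 by norm_num]
          exact (((Nat.coprime_primes hr.out Nat.prime_two).2 hCodd.1).pow_right 3).mul_right
            ((Nat.coprime_primes hr.out Nat.prime_three).2 hCodd.2))
        (show r ∣ 24 * 7 from hd))
      have := (Nat.prime_dvd_prime_iff_eq hr.out (by norm_num)).1 hr7
      subst this
      norm_num at h2
    · rw [hY] at h2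
      have h3 : r ^ 2 ∣ 3 * 5 * 7 * 11 * 19 :=
        (((Nat.coprime_primes hr.out Nat.prime_two).2 hCodd.1).pow 2 3).dvd_of_dvd_mul_left
          (show r ^ 2 ∣ 2 ^ 3 * (3 * 5 * 7 * 11 * 19) from h2)
      have hsf : Squarefree (3 * 5 * 7 * 11 * 19 : ℕ) := by
        rw [Nat.squarefree_mul_iff]
        refine ⟨by norm_num, ?_, (Nat.prime_iff.1 (by norm_num : Nat.Prime 19)).squarefree⟩
        rw [Nat.squarefree_mul_iff]
        refine ⟨by norm_num, ?_, (Nat.prime_iff.1 (by norm_num : Nat.Prime 11)).squarefree⟩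
        rw [Nat.squarefree_mul_iff]
        refine ⟨by norm_num, ?_, (Nat.prime_iff.1 (by norm_num : Nat.Prime 7)).squarefree⟩
        rw [Nat.squarefree_mul_iff]
        exact ⟨by norm_num, (Nat.prime_iff.1 (by norm_num : Nat.Prime 3)).squarefree,
          (Nat.prime_iff.1 (by norm_num : Nat.Prime 5)).squarefree⟩
      have := Nat.isUnit_iff.1 (hsf r (by rwa [← pow_two]))
      omega
  obtain ⟨R⟩ : Nonempty (Sylow r Y) := inferInstance
  have hRc : Nat.card (R : Subgroup Y) = r := by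
    obtain ⟨j, hj⟩ := R.2.exists_card_eq
    have h1 : r ∣ Nat.card (R : Subgroup Y) := R.dvd_card_of_dvd_card hd
    rcases j with - | - | j
    · rw [hj, pow_zero, Nat.dvd_one] at h1; exact absurd h1 hr.out.ne_one
    · rw [hj, pow_one]
    · exact absurd ((pow_dvd_pow r (show 2 ≤ j + 2 by omega)).trans (hj ▸ card_subgroup_dvd_card _)) hsq
  refine ⟨R, hRc, ?_⟩
  by_contra hc
  push Not at hc
  have hle : normalizer ((R : Subgroup Y) : Set Y) ≤ centralizer ((R : Subgroup Y) : Set Y) :=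
    fun n hn => mem_centralizer_iff.2 fun x hx =>
      (mul_inv_eq_iff_eq_mul.1 (hc n (fun y hy => (mem_normalizer_iff.1 hn y).1 hy) x hx)).symm
  set M := (MonoidHom.transferSylow R hle).ker with hM
  have hcpl := MonoidHom.ker_transferSylow_isComplement' R hle
  have hmul : Nat.card M * r = Nat.card Y := hRc ▸ hcpl.card_mul
  have hCM : ∀ a : Y, orderOf a = 2 → centralizer ({a} : Set Y) ≤ M := by
    intro a ha c hc'
    refine MonoidHom.mem_ker.2 (orderOf_eq_one_iff.1 (Nat.eq_one_of_dvd_coprimes ?_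
      (Subgroup.orderOf_coe (MonoidHom.transferSylow R hle c) ▸ Subgroup.orderOf_dvd_natCard _
        (MonoidHom.transferSylow R hle c).2)
      ((orderOf_map_dvd (MonoidHom.transferSylow R hle) c).trans (Subgroup.orderOf_dvd_natCard _ hc'))))
    rw [hRc, hr.out.coprime_iff_not_dvd]
    obtain ⟨g, rfl⟩ := Q.all_conj ha
    rwa [← MulAut.conj_apply, ← map_centralizer (MulAut.conj g) Q.t,
      card_map_of_injective (MulAut.conj g).injective]
  rcases h with ⟨h3, hY⟩ | ⟨-, hs, hY⟩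
  · obtain ⟨c, hcC, -, a, ha, hne⟩ := Q.exists_moving_cent
    have hC24 : Nat.card (centralizer ({Q.t} : Set Y)) = 24 := by rw [Q.card_cent, card_psl_three h3]
    have ha1 : a ≠ 1 := fun e => hne (by rw [e]; group)
    have h24 : ∀ u : Y, orderOf u = 2 → centralizer ({u} : Set Y) = M := by
      intro u hu
      refine eq_of_le_of_card_ge (hCM u hu) ?_
      obtain ⟨g, rfl⟩ := Q.all_conj hu
      rw [← MulAut.conj_apply, ← map_centralizer (MulAut.conj g) Q.t,
        card_map_of_injective (MulAut.conj g).injective, hC24]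
      rw [hY] at hd hmul
      have hr7 : r ∣ 7 := (Nat.Coprime.dvd_of_dvd_mul_left
        (show Nat.Coprime r 24 by
          rw [show (24 : ℕ) = 2 ^ 3 * 3 by norm_num]
          exact (((Nat.coprime_primes hr.out Nat.prime_two).2 hCodd.1).pow_right 3).mul_right
            ((Nat.coprime_primes hr.out Nat.prime_three).2 hCodd.2))
        (show r ∣ 24 * 7 from hd))
      have := (Nat.prime_dvd_prime_iff_eq hr.out (by norm_num)).1 hr7
      subst this
      omega
    rw [h24 _ Q.ht, ← h24 a (Q.invol ha ha1)] at hcC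
    exact hne (mul_inv_eq_iff_eq_mul.2 (mem_centralizer_singleton_iff.1 hcC))
  · haveI := hs
    rcases (inferInstance : M.Normal).eq_bot_or_eq_top with h' | h'
    · exact Invol.invol_ne_one Q.ht (mem_bot.1 (h' ▸ hCM Q.t Q.ht (mem_centralizer_singleton_iff.2 rfl)))
    · rw [h', card_top] at hmul
      have := hr.out.two_le
      nlinarith [Nat.card_pos (α := Y)]

end Quot

end CfsgLib.BGroup.FieldKill
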