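import Cfsg.Agent.Lib.BGroup.FieldKill.Frame
import Cfsg.Agent.Lib.BGroup.FieldKill.Quot

/-!
# The centralizers of subgroups of `D`
-/

set_option autoImplicit false
set_option linter.unusedSectionVars false
set_option linter.style.haveILetI false

namespace CfsgLib.BGroup.FieldKill

open Subgroup

universe u

variable {X : Type u} [Group X] [Finite X]

theorem mem_zpowers_mul {G : Type*} [Group G] [Finite G] {x y : G} (h : Commute x y)
    (hco : (orderOf x).Coprime (orderOf y)) : x ∈ zpowers (x * y) := by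
  have hg : zpowers (x ^ orderOf y) = zpowers x := by
    refine le_antisymm (zpowers_le.2 (pow_mem (mem_zpowers x) _)) (zpowers_le.2 ?_)
    obtain ⟨j, hj⟩ := exists_pow_eq_self_of_coprime (x := x) hco.symm
    have := pow_mem (mem_zpowers (x ^ orderOf y)) j
    rwa [hj] at this
  have hle : zpowers (x ^ orderOf y) ≤ zpowers (x * y) := by
    refine zpowers_le.2 ?_
    have := pow_mem (mem_zpowers (x * y)) (orderOf y)
    rwa [h.mul_pow, pow_orderOf_eq_one, mul_one] at this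
  exact hle (hg.symm ▸ mem_zpowers x)

theorem ofAdd_one_ne : Multiplicative.ofAdd (1 : ZMod 2) ≠ 1 := by decide

namespace Frame

variable (Φ : Frame X)
include Φ

theorem two_ne : Odd (Fintype.card Φ.F) := by
  rw [Nat.odd_iff]; rcases Φ.mod_eight with h | h <;> omega

theorem sq_t : Φ.t * Φ.t = 1 := Invol.invol_mul_self Φ.ht

theorem D_comm_S {d s : X} (hd : d ∈ Φ.D) (hs : s ∈ (Φ.S : Subgroup X)) : Commute d s :=
  ((Φ.mem_D d).1 hd).1 s hs

theorem D_comm_t {d : X} (hd : d ∈ Φ.D) : Commute d Φ.t := Φ.D_comm_S hd Φ.htS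

theorem D_odd : Odd (Nat.card Φ.D) := by
  rw [← Nat.not_even_iff_odd, even_iff_two_dvd]
  intro h
  haveI : Fact (Nat.Prime 2) := ⟨Nat.prime_two⟩
  obtain ⟨d, hd⟩ := exists_prime_orderOf_dvd_card' (G := Φ.D) 2 h
  have := ((Φ.mem_D d).1 d.2).2
  rw [Subgroup.orderOf_coe, hd] at this
  exact absurd this (by decide)

theorem D_comm {d d' : X} (hd : d ∈ Φ.D) (hd' : d' ∈ Φ.D) : Commute d d' := by
  haveI := Φ.D_cyc
  obtain ⟨g, hg⟩ := IsCyclic.exists_generator (α := Φ.D)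
  obtain ⟨i, hi⟩ := mem_zpowers_iff.1 (hg ⟨d, hd⟩)
  obtain ⟨j, hj⟩ := mem_zpowers_iff.1 (hg ⟨d', hd'⟩)
  have h : Commute (⟨d, hd⟩ : Φ.D) ⟨d', hd'⟩ := hi ▸ hj ▸ Commute.zpow_zpow (Commute.refl g) i j
  exact congrArg Subtype.val h

theorem K_conj {x : X} (hx : Commute x Φ.t) {k : X} (hk : k ∈ Φ.K) : x * k * x⁻¹ ∈ Φ.K :=
  Φ.K_map (MulAut.conj x) (by rw [MulAut.conj_apply, hx.eq, mul_inv_cancel_right]) k hk

theorem D_conj {n : X} (hn : n ∈ normalizer ((Φ.S : Subgroup X) : Set X)) {d : X} (hd : d ∈ Φ.D) :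
    n * d * n⁻¹ ∈ Φ.D := by
  refine (Φ.mem_D _).2 ⟨fun s hs => ?_, ?_⟩
  · have hs' : n⁻¹ * s * n ∈ (Φ.S : Subgroup X) := by
      have := (mem_normalizer_iff.1 (inv_mem hn) s).1 hs
      rwa [inv_inv] at this
    have h := ((Φ.mem_D d).1 hd).1 _ hs'
    have h2 : Commute (n * d * n⁻¹) (n * (n⁻¹ * s * n) * n⁻¹) := h.map (MulAut.conj n).toMonoidHom
    rwa [show n * (n⁻¹ * s * n) * n⁻¹ = s by group] at h2
  · rw [← MulAut.conj_apply, MulEquiv.orderOf_eq]; exact ((Φ.mem_D d).1 hd).2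

/-- Elements of `K` normalising `S` centralize `D`. -/
theorem K_fix {k : X} (hk : k ∈ Φ.K) (hn : k ∈ normalizer ((Φ.S : Subgroup X) : Set X)) {d : X}
    (hd : d ∈ Φ.D) : Commute k d := by
  have h1 : k * d * k⁻¹ * d⁻¹ ∈ Φ.D := mul_mem (Φ.D_conj hn hd) (inv_mem hd)
  have h2 : k * d * k⁻¹ * d⁻¹ ∈ Φ.K := by
    rw [show k * d * k⁻¹ * d⁻¹ = k * (d * k⁻¹ * d⁻¹) by group]
    exact mul_mem hk (Φ.K_conj (Φ.D_comm_t hd) (inv_mem hk))
  have h3 := Φ.disj 1 (Or.inl rfl) _ h2 (by rwa [one_mul])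
  rw [one_mul] at h3
  exact mul_inv_eq_iff_eq_mul.1 (mul_inv_eq_one.1 h3)

theorem cent_sub {D₁ : Subgroup X} (hD₁ : D₁ ≤ Φ.D) :
    ∃ (F₁ : Type) (_ : Field F₁) (_ : Fintype F₁), Fintype.card F₁ ^ Nat.card D₁ = Fintype.card Φ.F ∧
      Nonempty (↥(Φ.K ⊓ centralizer (D₁ : Set X)) ≃* Matrix.ProjectiveSpecialLinearGroup (Fin 2) F₁) := by
  haveI := Φ.D_cyc
  haveI : IsCyclic D₁ := isCyclic_of_injective (inclusion hD₁) (inclusion_injective hD₁)
  obtain ⟨g, hg⟩ := IsCyclic.exists_ofOrder_eq_natCard (α := D₁)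
  have hgen : D₁ = zpowers (g : X) := (eq_of_le_of_card_ge (zpowers_le.2 g.2)
    (by rw [Nat.card_zpowers, Subgroup.orderOf_coe, hg])).symm
  have heq : centralizer (D₁ : Set X) = centralizer ({(g : X)} : Set X) := by
    refine le_antisymm (centralizer_le (by simp)) fun x hx => mem_centralizer_iff.2 fun d hd => ?_
    rw [SetLike.mem_coe, hgen] at hd
    obtain ⟨i, rfl⟩ := mem_zpowers_iff.1 hd
    exact (((show Commute x (g : X) from mem_centralizer_singleton_iff.1 hx).zpow_right i).eq).symm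
  obtain ⟨F₁, i1, i2, hc, he⟩ := Φ.cent g (hD₁ g.2)
  refine ⟨F₁, i1, i2, ?_, heq ▸ he⟩
  rwa [← hg, ← Subgroup.orderOf_coe]

/-- A subgroup `N` of `C(D₁)` that looks like the whole centralizer. -/
structure Sect (Φ : Frame X) (D₁ N : Subgroup X) : Prop where
  D₁_le : D₁ ≤ Φ.D
  S_le : (Φ.S : Subgroup X) ≤ N
  D₁_mem : D₁ ≤ N
  N_le : N ≤ centralizer (D₁ : Set X)
  K_le : Φ.K ⊓ centralizer (D₁ : Set X) ≤ N
  cent : ∀ x ∈ N, Commute x Φ.t → ∃ a, (a = 1 ∨ a = Φ.t) ∧ ∃ k ∈ Φ.K, ∃ d ∈ D₁, x = a * k * d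
  fus : ∀ a ∈ (Φ.S : Subgroup X), a ≠ 1 →
    ∃ n ∈ N, n ∈ normalizer ((Φ.S : Subgroup X) : Set X) ∧ n * Φ.t * n⁻¹ = a
  invol : ∀ x : X, orderOf x = 2 → x ∈ centralizer (D₁ : Set X) → x ∈ N

variable {Φ}

theorem Sect.commute {D₁ N : Subgroup X} (h : Sect Φ D₁ N) {x : X} (hx : x ∈ N) {d : X} (hd : d ∈ D₁) :
    Commute x d := (mem_centralizer_iff.1 (h.N_le hx) d hd).symm

theorem Sect.normal {D₁ N : Subgroup X} (h : Sect Φ D₁ N) : (D₁.subgroupOf N).Normal :=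
  ⟨fun d hd n => by
    show (n : X) * d * (n : X)⁻¹ ∈ D₁
    rw [(show Commute (n : X) d from h.commute n.2 hd).eq, mul_inv_cancel_right]
    exact hd⟩

/-- Lifting a commuting pair. -/
theorem Sect.lift_commute {D₁ N : Subgroup X} (h : Sect Φ D₁ N) {x u : X} (hx : x ∈ N) (hu : u ∈ N)
    (hu2 : orderOf u = 2) (hd : x * u * x⁻¹ * u⁻¹ ∈ D₁) : Commute x u := by
  set d := x * u * x⁻¹ * u⁻¹ with hd'
  have hdu : Commute u d := h.commute hu hd
  have h2 : (d * u) * (d * u) = 1 := by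
    rw [show d * u = x * u * x⁻¹ by rw [hd']; group,
      show x * u * x⁻¹ * (x * u * x⁻¹) = x * (u * u) * x⁻¹ by group, Invol.invol_mul_self hu2]
    group
  rw [hdu.mul_mul_mul_comm, Invol.invol_mul_self hu2, mul_one] at h2
  have hd1 : d = 1 := Invol.eq_one_of_odd_of_mul_self
    ((Φ.D_odd).of_dvd_nat (Subgroup.orderOf_dvd_natCard _ (h.D₁_le hd))) h2
  exact mul_inv_eq_iff_eq_mul.1 (mul_inv_eq_one.1 (hd' ▸ hd1))

/-- The quotient by `D₁`. -/
theorem Sect.exists_quot {D₁ N : Subgroup X} (h : Sect Φ D₁ N) [(D₁.subgroupOf N).Normal] :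
    ∃ Q : Quot (N ⧸ D₁.subgroupOf N), Q.t = QuotientGroup.mk' _ (⟨Φ.t, h.S_le Φ.htS⟩ : N) ∧
      Fintype.card Q.F ^ Nat.card D₁ = Fintype.card Φ.F ∧
      Nat.card (Matrix.ProjectiveSpecialLinearGroup (Fin 2) Q.F) ∣ Nat.card Φ.K := by
  classical
  haveI : Fact (Nat.Prime 2) := ⟨Nat.prime_two⟩
  obtain ⟨F₁, i1, i2, hF₁, ⟨e₁⟩⟩ := Φ.cent_sub h.D₁_le
  set π := QuotientGroup.mk' (D₁.subgroupOf N) with hπ
  have hπs : Function.Surjective π := QuotientGroup.mk'_surjective _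
  have hπ1 : ∀ x : N, π x = 1 ↔ (x : X) ∈ D₁ := fun x => QuotientGroup.eq_one_iff x
  let tN : N := ⟨Φ.t, h.S_le Φ.htS⟩
  have htd : ∀ s ∈ (Φ.S : Subgroup X), s ∈ D₁ → s = 1 := fun s hs hd => by
    obtain ⟨j, hj⟩ := Φ.S.2 ⟨s, hs⟩
    exact Invol.eq_one_of_odd_of_pow_two
      ((Φ.D_odd).of_dvd_nat (Subgroup.orderOf_dvd_natCard _ (h.D₁_le hd))) (congrArg Subtype.val hj)
  set SN : Sylow 2 N := Φ.S.subtype h.S_le
  set T : Sylow 2 (N ⧸ D₁.subgroupOf N) := SN.mapSurjective hπs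
  have hTeq : (T : Subgroup (N ⧸ D₁.subgroupOf N)) = (SN : Subgroup N).map π := Sylow.coe_mapSurjective _ _
  have hinj : Set.InjOn π (SN : Subgroup N) := by
    intro a ha b hb hab
    have h1 : ((a * b⁻¹ : N) : X) ∈ D₁ := (hπ1 _).1 (by rw [map_mul, map_inv, hab, mul_inv_cancel])
    have h2 := htd _ (mul_mem (show (a : X) ∈ (Φ.S : Subgroup X) from ha)
      (inv_mem (show (b : X) ∈ (Φ.S : Subgroup X) from hb))) h1
    exact Subtype.ext (mul_inv_eq_one.1 h2)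
  have hT8 : Nat.card (T : Subgroup (N ⧸ D₁.subgroupOf N)) = 8 := by
    rw [hTeq, ← Φ.h8, ← Nat.card_congr (subgroupOfEquivOfLe h.S_le).toEquiv]
    exact Nat.card_image_of_injOn hinj
  have hTel : Cfsg.IsElementaryAbelian 2 (T : Subgroup (N ⧸ D₁.subgroupOf N)) := by
    refine ⟨⟨⟨fun a b => Subtype.ext ?_⟩⟩, fun a ha => ?_⟩
    · obtain ⟨x, hx, hxa⟩ := (hTeq ▸ a.2 : (a : N ⧸ D₁.subgroupOf N) ∈ (SN : Subgroup N).map π)
      obtain ⟨y, hy, hyb⟩ := (hTeq ▸ b.2 : (b : N ⧸ D₁.subgroupOf N) ∈ (SN : Subgroup N).map π)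
      show (a : N ⧸ D₁.subgroupOf N) * b = b * a
      rw [← hxa, ← hyb, ← map_mul, ← map_mul]
      exact congrArg π (Subtype.ext (show (x : X) * y = y * x from congrArg Subtype.val
        (Φ.hS.1.is_comm.comm (⟨(x : X), hx⟩ : ↥(Φ.S : Subgroup X)) ⟨(y : X), hy⟩)))
    · obtain ⟨x, hx, rfl⟩ := (hTeq ▸ ha : a ∈ (SN : Subgroup N).map π)
      rw [← map_pow, show x ^ 2 = 1 from Subtype.ext (by rw [Subgroup.coe_pow]; exact Φ.hS.2 _ hx), map_one]
  have htT : π tN ∈ (T : Subgroup (N ⧸ D₁.subgroupOf N)) := hTeq ▸ mem_map_of_mem π (show tN ∈ (SN : Subgroup N) from Φ.htS)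
  have ht2 : orderOf (π tN) = 2 := by
    refine Invol.invol_iff.2 ⟨?_, fun e => Invol.invol_ne_one Φ.ht (htd _ Φ.htS ((hπ1 tN).1 e))⟩
    rw [← map_mul, show tN * tN = 1 from Subtype.ext Φ.sq_t, map_one]
  -- the isomorphism
  set C := centralizer ({π tN} : Set (N ⧸ D₁.subgroupOf N)) with hC
  let τ : Multiplicative (ZMod 2) →* N :=
    MonoidHom.mk' (fun z => if z = 1 then 1 else tN) (fun a b => by
      by_cases ha : a = 1
      · subst ha; simp
      by_cases hb : b = 1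
      · subst hb; simp
      · simp only [ha, hb, if_false]
        rw [JTh.zmodTwo_mul a b ha hb, if_pos rfl]
        exact Subtype.ext Φ.sq_t.symm)
  have hτ : ∀ z, ((τ z : N) : X) = 1 ∨ ((τ z : N) : X) = Φ.t := fun z => by
    by_cases hz : z = 1
    · left; simp [τ, hz]
    · right; simp [τ, hz, tN]
  let κ : Matrix.ProjectiveSpecialLinearGroup (Fin 2) F₁ →* N :=
    (inclusion h.K_le).comp e₁.symm.toMonoidHom
  have hκ : ∀ p, ((κ p : N) : X) ∈ Φ.K := fun p => (mem_inf.1 (e₁.symm p).2).1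
  have hcomm : ∀ z p, Commute (τ z) (κ p) := fun z p => Subtype.ext (by
    rcases hτ z with e | e <;> rw [Subgroup.coe_mul, Subgroup.coe_mul, e]
    · rw [one_mul, mul_one]
    · exact (Φ.K_comm _ (hκ p)).eq.symm)
  let g : Multiplicative (ZMod 2) × Matrix.ProjectiveSpecialLinearGroup (Fin 2) F₁ →* N :=
    MonoidHom.noncommCoprod τ κ hcomm
  have hg : ∀ v, g v = τ v.1 * κ v.2 := fun v => rfl
  let f : Multiplicative (ZMod 2) × Matrix.ProjectiveSpecialLinearGroup (Fin 2) F₁ →* C :=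
    (π.comp g).codRestrict C fun v => mem_centralizer_singleton_iff.2 (by
      show π (g v) * π tN = π tN * π (g v)
      rw [← map_mul, ← map_mul]
      refine congrArg π (Subtype.ext ?_)
      show ((τ v.1 : N) : X) * (κ v.2 : X) * Φ.t = Φ.t * ((τ v.1 : X) * (κ v.2 : X))
      rcases hτ v.1 with e | e <;> rw [e]
      · rw [one_mul]; exact (Φ.K_comm _ (hκ v.2)).eq
      · rw [mul_assoc, (Φ.K_comm _ (hκ v.2)).eq])
  have hfinj : Function.Injective f := by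
    rw [injective_iff_map_eq_one]
    rintro ⟨z, p⟩ hv
    have h1 : ((g (z, p) : N) : X) ∈ D₁ := (hπ1 _).1 (congrArg Subtype.val hv)
    rw [hg, Subgroup.coe_mul] at h1
    have h2 := Φ.disj _ (hτ z) _ (hκ p) (h.D₁_le h1)
    have hτ1 : ((τ z : N) : X) = 1 := (hτ z).resolve_right fun e => Φ.t_notMem (by
      rw [← e, eq_inv_of_mul_eq_one_left h2]; exact inv_mem (hκ p))
    have hp : κ p = 1 := Subtype.ext (by rw [hτ1, one_mul] at h2; exact h2)
    refine Prod.ext ?_ ?_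
    · show z = 1
      by_contra hz
      refine Invol.invol_ne_one Φ.ht ?_
      rw [← hτ1]
      simp [τ, hz, tN]
    · show p = 1
      have : inclusion h.K_le (e₁.symm p) = inclusion h.K_le 1 := by rw [map_one]; exact hp
      exact e₁.symm.injective (by rw [inclusion_injective _ this, map_one])
  have hfsurj : Function.Surjective f := by
    rintro ⟨y, hy⟩
    obtain ⟨x, rfl⟩ := hπs y
    have hxt : Commute (x : X) Φ.t := by
      refine h.lift_commute x.2 (h.S_le Φ.htS) Φ.ht ((hπ1 (x * tN * x⁻¹ * tN⁻¹)).1 ?_)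
      rw [map_mul, map_mul, map_mul, map_inv, map_inv, mem_centralizer_singleton_iff.1 hy]
      group
    obtain ⟨a, ha, k, hk, d, hd, hxd⟩ := h.cent x x.2 hxt
    have hkd : ∀ d' ∈ D₁, Commute k d' := by
      intro d' hd'
      have ha' : Commute a d' := by
        rcases ha with rfl | rfl
        exacts [Commute.one_left _, (Φ.D_comm_t (h.D₁_le hd')).symm]
      have hk' : k = a⁻¹ * (x : X) * d⁻¹ := by rw [hxd]; group
      rw [hk']
      exact (ha'.inv_left.mul_left (h.commute x.2 hd')).mul_left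
        (Φ.D_comm (h.D₁_le hd) (h.D₁_le hd')).inv_left
    have hkK : k ∈ Φ.K ⊓ centralizer (D₁ : Set X) :=
      mem_inf.2 ⟨hk, mem_centralizer_iff.2 fun d' hd' => (hkd d' hd').eq.symm⟩
    obtain ⟨z, hz⟩ : ∃ z, ((τ z : N) : X) = a := by
      rcases ha with rfl | rfl
      · exact ⟨1, by simp⟩
      · refine ⟨Multiplicative.ofAdd 1, ?_⟩
        show ((if (Multiplicative.ofAdd (1 : ZMod 2)) = 1 then (1 : N) else tN : N) : X) = Φ.t
        rw [if_neg ofAdd_one_ne]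
    refine ⟨(z, e₁ ⟨k, hkK⟩), Subtype.ext ?_⟩
    show π (g (z, e₁ ⟨k, hkK⟩)) = π x
    refine (eq_inv_mul_iff_mul_eq.1 ?_).symm.trans (mul_one _) |>.symm
    rw [eq_comm, ← map_inv, ← map_mul, hπ1, hg, Subgroup.coe_mul, Subgroup.coe_inv, Subgroup.coe_mul, hz,
      show ((κ (e₁ ⟨k, hkK⟩) : N) : X) = k by simp [κ], hxd,
      show (a * k)⁻¹ * (a * k * d) = d by group]
    exact hd
  refine ⟨{
    T := T
    t := π tN
    hT := hTel
    h8 := hT8
    ht := ht2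
    htT := htT
    F := F₁
    hmod := ?_
    e := (MulEquiv.ofBijective f ⟨hfinj, hfsurj⟩).symm
    fus := ?_ }, rfl, hF₁, ?_⟩
  · obtain ⟨j, hj⟩ := (Φ.D_odd).of_dvd_nat (card_dvd_of_le h.D₁_le)
    have hF := Φ.mod_eight
    have hodd1 : ¬ 2 ∣ Fintype.card F₁ := fun h2 => by
      have : 2 ∣ Fintype.card Φ.F := hF₁ ▸ dvd_pow h2 (by omega)
      omega
    have hsq : Fintype.card F₁ ^ 2 % 8 = 1 := by
      rw [Nat.pow_mod]
      rcases (show Fintype.card F₁ % 8 = 1 ∨ Fintype.card F₁ % 8 = 3 ∨ Fintype.card F₁ % 8 = 5 ∨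
        Fintype.card F₁ % 8 = 7 by omega) with e | e | e | e <;> rw [e]
    rw [← hF₁, hj, pow_succ, pow_mul, Nat.mul_mod, Nat.pow_mod, hsq, one_pow,
      show (1 % 8 : ℕ) = 1 from rfl, one_mul, Nat.mod_mod] at hF
    exact hF
  · intro y hy hy1
    obtain ⟨x, hx, rfl⟩ := (hTeq ▸ hy : y ∈ (SN : Subgroup N).map π)
    obtain ⟨n, hnN, hn, hnt⟩ := h.fus x hx fun e => hy1 (by rw [show x = 1 from Subtype.ext e, map_one])
    refine ⟨π ⟨n, hnN⟩, ?_, ?_⟩
    · have key : ∀ m : N, (m : X) ∈ normalizer ((Φ.S : Subgroup X) : Set X) →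
          ∀ y', y' ∈ (T : Subgroup (N ⧸ D₁.subgroupOf N)) →
            π m * y' * (π m)⁻¹ ∈ (T : Subgroup (N ⧸ D₁.subgroupOf N)) := by
        intro m hm y' hy'
        obtain ⟨x', hx', rfl⟩ := (hTeq ▸ hy' : y' ∈ (SN : Subgroup N).map π)
        rw [← map_inv, ← map_mul, ← map_mul]
        exact hTeq ▸ mem_map_of_mem π
          ((mem_normalizer_iff.1 hm x').1 hx' : (m * x' * m⁻¹) ∈ (SN : Subgroup N))
      refine mem_normalizer_iff.2 fun y' => ⟨key ⟨n, hnN⟩ hn y', fun hy' => ?_⟩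
      have := key (⟨n, hnN⟩ : N)⁻¹ (inv_mem hn) _ hy'
      rwa [map_inv, inv_inv, show ∀ a b : N ⧸ D₁.subgroupOf N, a⁻¹ * (a * b * a⁻¹) * a = b from
        fun a b => by group] at this
    · rw [← map_inv, ← map_mul, ← map_mul]
      exact congrArg π (Subtype.ext hnt)
  · rw [← Nat.card_congr e₁.toEquiv]
    exact card_dvd_of_le inf_le_left

end Frame

end CfsgLib.BGroup.FieldKill
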