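import Cfsg.Agent.Lib.BGroup.Basic
import Cfsg.Agent.Lib.PGroup.CyclicSylowTools
import Cfsg.Agent.Lib.Fusion.Transfer
import Cfsg.Agent.Lib.Classical.ProjLine
import Cfsg.Agent.Lib.Classical.ExcIso
import Cfsg.Agent.Lib.Perm.Dickson.Minimal
import Mathlib.GroupTheory.Transfer

/-!
# Tools for killing the field part
-/

set_option autoImplicit false
set_option linter.unusedSectionVars false
set_option linter.style.haveILetI false

namespace CfsgLib.BGroup.FieldKill

open Subgroup

universe u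

variable {G : Type u} [Group G] [Finite G]

/-- If `S` and its conjugate by `n` lie in `H`, some element of `H` brings `n` into the normalizer. -/
theorem exists_mul_mem_normalizer (S : Sylow 2 G) {H : Subgroup G} (hS : (S : Subgroup G) ≤ H) {n : G}
    (hn : ∀ s ∈ (S : Subgroup G), n * s * n⁻¹ ∈ H) :
    ∃ h ∈ H, h * n ∈ normalizer ((S : Subgroup G) : Set G) := by
  haveI : Fact (Nat.Prime 2) := ⟨Nat.prime_two⟩
  have hnS : ((n • S : Sylow 2 G) : Subgroup G) ≤ H := by
    intro y hy
    rw [Sylow.coe_subgroup_smul] at hy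
    obtain ⟨s, hs, rfl⟩ := hy
    exact hn s hs
  obtain ⟨c, hc⟩ := MulAction.exists_smul_eq H ((n • S).subtype hnS) (S.subtype hS)
  rw [Sylow.smul_subtype] at hc
  have hcn : ((c : G) * n) • S = S := by
    rw [mul_smul]; exact Sylow.subtype_injective hc
  exact ⟨c, c.2, Sylow.smul_eq_iff_mem_normalizer.1 hcn⟩

/-- A central element of an abelian Sylow subgroup lying in the derived group is trivial. -/
theorem eq_one_of_central {p : ℕ} [hp : Fact p.Prime] (P : Sylow p G)
    (hab : ∀ a ∈ (P : Subgroup G), ∀ b ∈ (P : Subgroup G), a * b = b * a) {x : G}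
    (hxP : x ∈ (P : Subgroup G)) (hxZ : ∀ g : G, g * x = x * g) (hxc : x ∈ commutator G) : x = 1 := by
  letI : CommGroup ↥(P : Subgroup G) :=
    { (inferInstance : Group ↥(P : Subgroup G)) with
      mul_comm := fun a b => Subtype.ext (hab a a.2 b b.2) }
  have key : ∀ (k : ℕ) (g₀ : G), g₀⁻¹ * x ^ k * g₀ ∈ (P : Subgroup G) →
      g₀⁻¹ * x ^ k * g₀ = x ^ k := fun k g₀ _ => by
    rw [mul_assoc, ← ((show Commute g₀ x from hxZ g₀).pow_right k).eq, inv_mul_cancel_left]
  have h1 := MonoidHom.transfer_eq_pow (MonoidHom.id ↥(P : Subgroup G)) x key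
  have h2 : MonoidHom.transfer (MonoidHom.id ↥(P : Subgroup G)) x = 1 :=
    Abelianization.commutator_subset_ker (MonoidHom.transfer (MonoidHom.id ↥(P : Subgroup G))) hxc
  rw [h2, MonoidHom.id_apply] at h1
  have h4 : x ^ (P : Subgroup G).index = 1 := (congrArg Subtype.val h1).symm
  obtain ⟨k, hk⟩ := P.2 ⟨x, hxP⟩
  have h5 : orderOf x ∣ p ^ k := orderOf_dvd_of_pow_eq_one (congrArg Subtype.val hk)
  refine orderOf_eq_one_iff.1 (Nat.eq_one_of_dvd_coprimes ?_ h5 (orderOf_dvd_of_pow_eq_one h4))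
  exact Nat.Coprime.pow_left k (hp.out.coprime_iff_not_dvd.2 P.not_dvd_index)

/-- A normal subgroup of odd order of a group with trivial odd core is trivial. -/
theorem eq_bot_of_normal_odd {H : Type u} [Group H] [Finite H] (hO : Cfsg.oddCore H = ⊥)
    (N : Subgroup H) [N.Normal] (hN : Odd (Nat.card N)) : N = ⊥ := by
  rw [eq_bot_iff, ← hO]
  exact Coprime.le_pPrimeCore_of_not_dvd Nat.prime_two
    fun h => Nat.not_even_iff_odd.2 hN (even_iff_two_dvd.2 h)

/-- With trivial odd core and `3 ∣ |H|` the normalizer of an abelian Sylow `2`-subgroup moves it. -/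
theorem exists_moving {H : Type u} [Group H] [Finite H] (T : Sylow 2 H)
    (hO : Cfsg.oddCore H = ⊥) (h3 : 3 ∣ Nat.card H) :
    ∃ n ∈ normalizer ((T : Subgroup H) : Set H), ∃ s ∈ (T : Subgroup H), n * s * n⁻¹ ≠ s := by
  haveI : Fact (Nat.Prime 2) := ⟨Nat.prime_two⟩
  by_contra hc
  push Not at hc
  have hle : normalizer ((T : Subgroup H) : Set H) ≤ centralizer ((T : Subgroup H) : Set H) :=
    fun n hn => mem_centralizer_iff.2 fun s hs => (mul_inv_eq_iff_eq_mul.1 (hc n hn s hs)).symm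
  have hcpl := MonoidHom.ker_transferSylow_isComplement' T hle
  set N := (MonoidHom.transferSylow T hle).ker with hN
  have hNodd : Odd (Nat.card N) := by
    rw [← Nat.not_even_iff_odd, even_iff_two_dvd]
    exact MonoidHom.not_dvd_card_ker_transferSylow T hle
  have hbot := eq_bot_of_normal_odd hO N hNodd
  have hmul := hcpl.card_mul
  rw [hbot, Subgroup.card_bot, one_mul] at hmul
  obtain ⟨k, hk⟩ := T.2.exists_card_eq
  rw [← hmul, hk] at h3
  have := Nat.Prime.dvd_of_dvd_pow Nat.prime_three h3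
  norm_num at this

/-- A normal subgroup, moving something, of a group transitive on the seven involutions of `S` is
transitive on them. -/
theorem transitive_of_normal (S : Subgroup G) (h8 : Nat.card S = 8) {M : Subgroup G}
    (hMS : ∀ m ∈ M, ∀ s ∈ S, m * s * m⁻¹ ∈ S)
    (hA : ∀ a ∈ S, a ≠ 1 → ∀ b ∈ S, b ≠ 1 → ∃ f : MulAut G, f a = b ∧ ∀ m ∈ M, f m ∈ M)
    (hmove : ∃ m ∈ M, ∃ s ∈ S, m * s * m⁻¹ ≠ s) :
    ∀ a ∈ S, a ≠ 1 → ∀ b ∈ S, b ≠ 1 → ∃ m ∈ M, m * a * m⁻¹ = b := by
  classical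
  haveI := Fintype.ofFinite G
  set P : Finset G := Finset.univ.filter (fun x => x ∈ S ∧ x ≠ 1) with hP
  set O : G → Finset G :=
    fun a => (Finset.univ.filter (fun m => m ∈ M)).image (fun m => m * a * m⁻¹) with hO
  have hmemO : ∀ a b, b ∈ O a ↔ ∃ m ∈ M, m * a * m⁻¹ = b := fun a b => by simp [hO]
  have hmemP : ∀ a, a ∈ P ↔ a ∈ S ∧ a ≠ 1 := fun a => by simp [hP]
  have hPcard : P.card = 7 := by
    have h1 : (Finset.univ.filter (fun x => x ∈ S)).card = 8 := by
      rw [← h8, Nat.card_eq_fintype_card, Fintype.card_subtype]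
    have h2 : P = (Finset.univ.filter (fun x => x ∈ S)).erase 1 := by
      ext x; simp [hP]; tauto
    rw [h2, Finset.card_erase_of_mem (by simp [one_mem]), h1]
  have hsub : ∀ a ∈ P, O a ⊆ P := by
    intro a ha b hb
    obtain ⟨haS, ha1⟩ := (hmemP a).1 ha
    obtain ⟨m, hm, rfl⟩ := (hmemO a b).1 hb
    exact (hmemP _).2 ⟨hMS m hm a haS, fun e => ha1 (conj_eq_one_iff.1 e)⟩
  have hle : ∀ a ∈ P, ∀ b ∈ P, (O a).card ≤ (O b).card := by
    intro a ha b hb
    obtain ⟨f, hfa, hfM⟩ := hA a ((hmemP a).1 ha).1 ((hmemP a).1 ha).2 b ((hmemP b).1 hb).1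
      ((hmemP b).1 hb).2
    refine Finset.card_le_card_of_injOn f (fun x hx => ?_) f.injective.injOn
    obtain ⟨m, hm, rfl⟩ := (hmemO a x).1 hx
    exact (hmemO b _).2 ⟨f m, hfM m hm, by rw [map_mul, map_mul, map_inv, hfa]⟩
  obtain ⟨m₀, hm₀, s₀, hs₀, hne⟩ := hmove
  have hs₀P : s₀ ∈ P := (hmemP s₀).2 ⟨hs₀, fun e => hne (by rw [e]; group)⟩
  have hfib : ∀ o ∈ P.image O, (P.filter (fun x => O x = o)).card = (O s₀).card := by
    intro o ho
    obtain ⟨a, ha, rfl⟩ := Finset.mem_image.1 ho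
    have : P.filter (fun x => O x = O a) = O a := by
      ext x
      rw [Finset.mem_filter]
      constructor
      · rintro ⟨-, hx⟩
        rw [← hx, hmemO]
        exact ⟨1, one_mem _, by group⟩
      · intro hx
        refine ⟨hsub a ha hx, ?_⟩
        obtain ⟨m, hm, rfl⟩ := (hmemO a x).1 hx
        ext y
        rw [hmemO, hmemO]
        constructor
        · rintro ⟨n, hn, rfl⟩
          exact ⟨n * m, mul_mem hn hm, by group⟩
        · rintro ⟨n, hn, rfl⟩
          exact ⟨n * m⁻¹, mul_mem hn (inv_mem hm), by group⟩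
    rw [this]
    exact le_antisymm (hle a ha s₀ hs₀P) (hle s₀ hs₀P a ha)
  have hsum := Finset.card_eq_sum_card_image O P
  rw [Finset.sum_congr rfl hfib, Finset.sum_const, smul_eq_mul, hPcard] at hsum
  have h2 : 2 ≤ (O s₀).card := Finset.one_lt_card.2 ⟨s₀, (hmemO _ _).2 ⟨1, one_mem _, by group⟩,
    m₀ * s₀ * m₀⁻¹, (hmemO _ _).2 ⟨m₀, hm₀, rfl⟩, Ne.symm hne⟩
  have h7 : (O s₀).card = 7 := by
    rcases (Nat.dvd_prime (by norm_num)).1 (Dvd.intro_left _ hsum.symm) with h | h <;> omega
  intro a ha ha1 b hb hb1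
  have haP : a ∈ P := (hmemP a).2 ⟨ha, ha1⟩
  have hOa : O a = P := Finset.eq_of_subset_of_card_le (hsub a haP)
    (by rw [hPcard, ← h7]; exact hle s₀ hs₀P a haP)
  exact (hmemO a b).1 (hOa ▸ (hmemP b).2 ⟨hb, hb1⟩)

section PSL

variable {F : Type} [Field F] [Fintype F]

theorem two_mul_card_psl (hodd : Odd (Fintype.card F)) :
    2 * Nat.card (Matrix.ProjectiveSpecialLinearGroup (Fin 2) F) =
      Fintype.card F * ((Fintype.card F - 1) * (Fintype.card F + 1)) := by
  have h := Classical.card_psl2 (F := F)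
  have hne : Fintype.card F % 2 = 1 := Nat.odd_iff.1 hodd
  rwa [Nat.gcd_eq_left (show 2 ∣ Fintype.card F - 1 by omega)] at h

theorem three_dvd_card_psl (hodd : Odd (Fintype.card F)) :
    3 ∣ Nat.card (Matrix.ProjectiveSpecialLinearGroup (Fin 2) F) := by
  refine (show Nat.Coprime 3 2 by norm_num).dvd_of_dvd_mul_left ?_
  rw [two_mul_card_psl hodd]
  rcases (show Fintype.card F % 3 = 0 ∨ Fintype.card F % 3 = 1 ∨ Fintype.card F % 3 = 2 by omega)
    with h | h | h
  · exact dvd_mul_of_dvd_left (Nat.dvd_of_mod_eq_zero h) _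
  · exact dvd_mul_of_dvd_right (dvd_mul_of_dvd_left (by omega) _) _
  · exact dvd_mul_of_dvd_right (dvd_mul_of_dvd_right (by omega) _) _

theorem card_psl_three (h : Fintype.card F = 3) :
    Nat.card (Matrix.ProjectiveSpecialLinearGroup (Fin 2) F) = 12 := by
  have := two_mul_card_psl (F := F) (by rw [h]; decide)
  rw [h] at this
  omega

theorem card_psl_five (h : Fintype.card F = 5) :
    Nat.card (Matrix.ProjectiveSpecialLinearGroup (Fin 2) F) = 60 := by
  have := two_mul_card_psl (F := F) (by rw [h]; decide)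
  rw [h] at this
  omega

/-- `PSL(2, q)`, `q` odd, has trivial odd core. -/
theorem oddCore_psl (hodd : Odd (Fintype.card F)) :
    Cfsg.oddCore (Matrix.ProjectiveSpecialLinearGroup (Fin 2) F) = ⊥ := by
  classical
  haveI : Fact (Nat.Prime 2) := ⟨Nat.prime_two⟩
  set P := Matrix.ProjectiveSpecialLinearGroup (Fin 2) F
  set V := Cfsg.oddCore P with hV
  have hV2 : ¬ 2 ∣ Nat.card V := Coprime.pPrimeCore_not_dvd Nat.prime_two
  have hq : 3 ≤ Fintype.card F := by
    have h1 := Fintype.one_lt_card (α := F)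
    have h2 : Fintype.card F % 2 = 1 := Nat.odd_iff.1 hodd
    omega
  have h4P : 4 ∣ Nat.card P := by
    obtain ⟨j, hj⟩ := hodd
    obtain ⟨c, hc⟩ := Nat.even_mul_succ_self j
    refine ⟨Fintype.card F * c, ?_⟩
    have h := two_mul_card_psl (F := F) ⟨j, hj⟩
    rw [hj, show 2 * j + 1 - 1 = 2 * j by omega] at h
    rw [hj]
    have : j * (j + 1) = c + c := hc
    nlinarith
  rcases (show Fintype.card F = 3 ∨ 4 ≤ Nat.card F by rw [Nat.card_eq_fintype_card]; omega) with h3 | h4
  · by_contra hne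
    have hdvd : Nat.card V ∣ 12 := card_psl_three h3 ▸ card_subgroup_dvd_card V
    have hV1 : Nat.card V ≠ 1 := fun h => hne (Subgroup.card_eq_one.1 h)
    have hV3 : Nat.card V = 3 := by
      have := Nat.le_of_dvd (by norm_num) hdvd
      interval_cases Nat.card V <;> omega
    haveI := Fact.mk (show Nat.Prime 3 by norm_num)
    obtain ⟨v, hv⟩ := exists_prime_orderOf_dvd_card' (G := V) 3 hV3.symm.dvd
    have hgen : ∀ x ∈ V, x ∈ zpowers (v : P) := by
      intro x hx
      have htop : zpowers v = ⊤ :=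
        Subgroup.eq_top_of_card_eq _ (by rw [Nat.card_zpowers, hv, hV3])
      obtain ⟨i, hi⟩ := mem_zpowers_iff.1 (htop.symm ▸ mem_top (⟨x, hx⟩ : V) : (⟨x, hx⟩ : V) ∈ zpowers v)
      exact mem_zpowers_iff.2 ⟨i, by rw [← Subgroup.coe_zpow, hi]⟩
    have hconj : ∀ g : P, g * v * g⁻¹ = v ∨ g * v * g⁻¹ = (v : P)⁻¹ := by
      intro g
      obtain ⟨i, hi⟩ := mem_zpowers_iff.1 (hgen _ (Subgroup.Normal.conj_mem inferInstance _ v.2 g))
      rw [← zpow_mod_orderOf, Subgroup.orderOf_coe, hv] at hi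
      rcases (show i % (3 : ℕ) = 0 ∨ i % (3 : ℕ) = 1 ∨ i % (3 : ℕ) = 2 by omega) with e | e | e <;>
        rw [e] at hi
      · rw [zpow_zero] at hi
        have hv1 : (v : P) = 1 := conj_eq_one_iff.1 hi.symm
        have : orderOf v = 1 := by rw [← Subgroup.orderOf_coe, hv1, orderOf_one]
        omega
      · exact Or.inl (by rw [← hi, zpow_one])
      · refine Or.inr ?_
        rw [← hi, show (2 : ℤ) = -1 + 3 by norm_num, zpow_add, zpow_neg_one]
        have h3' := pow_orderOf_eq_one (v : P)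
        rw [Subgroup.orderOf_coe, hv] at h3'
        rw [show (v : P) ^ (3 : ℤ) = 1 by exact_mod_cast h3', mul_one]
    obtain ⟨T⟩ : Nonempty (Sylow 2 P) := inferInstance
    have hT4 : Nat.card (T : Subgroup P) = 4 := by
      rw [T.card_eq_multiplicity, card_psl_three h3, show (12 : ℕ) = 2 ^ 2 * 3 by norm_num,
        Nat.factorization_mul (by norm_num) (by norm_num), Finsupp.add_apply,
        Nat.factorization_eq_zero_of_not_dvd (by norm_num : ¬ 2 ∣ 3), add_zero,
        Nat.Prime.factorization_pow Nat.prime_two, Finsupp.single_eq_same]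
      norm_num
    haveI : IsMulCommutative (T : Subgroup P) := IsPGroup.isMulCommutative_of_card_eq_prime_sq (p := 2) (by rw [hT4]; norm_num)
    -- an element of `T` centralizing `v`
    obtain ⟨a, haT, ha1, hav⟩ : ∃ a ∈ (T : Subgroup P), a ≠ 1 ∧ a * v * a⁻¹ = (v : P) := by
      by_contra hc
      push Not at hc
      haveI : Nontrivial (T : Subgroup P) := Finite.one_lt_card_iff_nontrivial.1 (by omega)
      obtain ⟨a, ha⟩ := exists_ne (1 : (T : Subgroup P))
      obtain ⟨b, hb1, hba⟩ : ∃ b : (T : Subgroup P), b ≠ 1 ∧ b ≠ a⁻¹ := by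
        by_contra hc'
        push Not at hc'
        have : Nat.card (T : Subgroup P) ≤ 2 :=
          (Nat.card_le_card_of_injective (fun x => decide (x = 1)) (fun x y hxy => by
            by_cases hx : x = 1 <;> by_cases hy : y = 1
            · rw [hx, hy]
            · simp [hx, hy] at hxy
            · simp [hx, hy] at hxy
            · rw [hc' x hx, hc' y hy])).trans (by simp)
        omega
      have h1 := (hconj a).resolve_left (hc a a.2 fun e => ha (Subtype.ext e))
      have h2 := (hconj b).resolve_left (hc b b.2 fun e => hb1 (Subtype.ext e))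
      refine hc (a * b) (mul_mem a.2 b.2) (fun e => hba ?_) ?_
      · exact eq_inv_of_mul_eq_one_right (Subtype.ext e)
      · calc (a : P) * b * v * ((a : P) * b)⁻¹ = (a : P) * ((b : P) * v * (b : P)⁻¹) * (a : P)⁻¹ := by group
          _ = ((a : P) * v * (a : P)⁻¹)⁻¹ := by rw [h2]; group
          _ = v := by rw [h1, inv_inv]
    -- it is central
    set C := centralizer ({a} : Set P)
    have hvC : (v : P) ∈ C := mem_centralizer_singleton_iff.2 (mul_inv_eq_iff_eq_mul.1 hav).symm
    have hTC : (T : Subgroup P) ≤ C := fun x hx => mem_centralizer_singleton_iff.2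
      (congrArg Subtype.val (mul_comm' (⟨x, hx⟩ : (T : Subgroup P)) ⟨a, haT⟩))
    have h12 : 12 ∣ Nat.card C := by
      have h34 : Nat.Coprime 3 4 := by norm_num
      refine (show 12 = 3 * 4 by norm_num) ▸ h34.mul_dvd_of_dvd_of_dvd ?_ (hT4 ▸ card_dvd_of_le hTC)
      rw [← hv, ← Subgroup.orderOf_coe]
      exact Subgroup.orderOf_dvd_natCard _ hvC
    have htop : C = ⊤ := Subgroup.eq_top_of_le_card _
      (by rw [card_psl_three h3]; exact Nat.le_of_dvd Nat.card_pos h12)
    have haZ : a ∈ center P := mem_center_iff.2 fun g =>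
      mem_centralizer_singleton_iff.1 (htop ▸ mem_top g : g ∈ C)
    rw [Classical.ExcIso.center_psl_bot (le_refl 2) (fun _ => hq), mem_bot] at haZ
    exact ha1 haZ
  · haveI := (CfsgLib.Perm.Dickson.psl_simple_noncomm (F := F) h4).1
    rcases (inferInstance : V.Normal).eq_bot_or_eq_top with h | h
    · exact h
    · exfalso
      rw [h, card_top] at hV2
      exact hV2 (Dvd.dvd.trans (by norm_num) h4P)

end PSL

/-- Adjoining a factor of order two keeps the odd core trivial. -/
theorem oddCore_two_prod {P : Type u} [Group P] [Finite P] (hP : Cfsg.oddCore P = ⊥) :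
    Cfsg.oddCore (Multiplicative (ZMod 2) × P) = ⊥ := by
  set V := Cfsg.oddCore (Multiplicative (ZMod 2) × P) with hV
  have hodd : Odd (Nat.card V) := by
    rw [← Nat.not_even_iff_odd, even_iff_two_dvd]
    exact Coprime.pPrimeCore_not_dvd Nat.prime_two
  haveI : (V.map (MonoidHom.snd (Multiplicative (ZMod 2)) P)).Normal :=
    Subgroup.Normal.map inferInstance _ Prod.snd_surjective
  have h := eq_bot_of_normal_odd hP _ (hodd.of_dvd_nat (card_map_dvd V (MonoidHom.snd _ P)))
  rw [eq_bot_iff]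
  rintro ⟨z, p⟩ hx
  have hp : p ∈ V.map (MonoidHom.snd (Multiplicative (ZMod 2)) P) := ⟨_, hx, rfl⟩
  rw [h, mem_bot] at hp
  subst hp
  have hsq : ((z, 1) : Multiplicative (ZMod 2) × P) * (z, 1) = 1 :=
    Prod.ext ((show ∀ w : Multiplicative (ZMod 2), w * w = 1 by decide) z) (mul_one 1)
  exact mem_bot.2 (Invol.eq_one_of_odd_of_mul_self
    (hodd.of_dvd_nat (Subgroup.orderOf_dvd_natCard _ hx)) hsq)

end CfsgLib.BGroup.FieldKill
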